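import Mathlib

/-!
# Group ring identities: elements acting without fixed points

`ρ : T →* R` is a representation in a ring `R`.  The norms of some elements of `T` act as zero;
conclusion: some element acts trivially.
-/

set_option autoImplicit false

namespace Cfsg.Agent.H359.Ring

variable {T : Type*} [Group T] {R : Type*} [Ring R]

/-- The norm of `t` (of order dividing `n`). -/
def nrm (ρ : T →* R) (t : T) (n : ℕ) : R := ∑ i ∈ Finset.range n, ρ (t ^ i)

theorem nrm_three (ρ : T →* R) (t : T) : nrm ρ t 3 = ρ 1 + ρ t + ρ (t * t) := by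
  simp [nrm, Finset.sum_range_succ, pow_succ]

theorem nrm_four (ρ : T →* R) (t : T) : nrm ρ t 4 = ρ 1 + ρ t + ρ (t * t) + ρ (t * t * t) := by
  simp [nrm, Finset.sum_range_succ, pow_succ]

/-- `2` is regular. -/
def Reg2 (R : Type*) [Ring R] : Prop := ∀ a : R, a + a = 0 → a = 0

/-- If `e a = -e`, `e b = -e`, `e ab = -e` then `e = 0`. -/
theorem eq_zero_of_neg (h2 : Reg2 R) {e a b : R} (ha : e * a = -e) (hb : e * b = -e)
    (hab : e * (a * b) = -e) : e = 0 := by
  apply h2
  have h : e * (a * b) = e := by rw [← mul_assoc, ha, neg_mul, hb, neg_neg]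
  rw [hab] at h
  exact (congrArg (· + e) h).symm.trans (neg_add_cancel e)

theorem eq_neg_of_mul {e a : R} (h : e * (1 + a) = 0) : e * a = -e := by
  rw [mul_add, mul_one] at h
  exact (neg_eq_of_add_eq_zero_right h).symm

theorem m1_D (h2 : Reg2 R) (ρ : T →* R) {d a b : T} (hda : Commute d a) (hdb : Commute d b)
    (hab : Commute a b) (d3 : d ^ 3 = 1) (a2 : a ^ 2 = 1) (b2 : b ^ 2 = 1)
    (h1 : nrm ρ (d * a) 6 = 0) (h3 : nrm ρ (d * b) 6 = 0) (h4 : nrm ρ (d * (a * b)) 6 = 0) :
    nrm ρ d 3 = 0 := by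
  have key : ∀ c : T, Commute d c → c ^ 2 = 1 → nrm ρ (d * c) 6 = nrm ρ d 3 * (1 + ρ c) := by
    intro c hc c2
    have e3 : c ^ 3 = c := by rw [pow_succ, c2, one_mul]
    have e4 : c ^ 4 = 1 := by rw [pow_succ, e3, ← pow_two, c2]
    have e5 : c ^ 5 = c := by rw [pow_succ, e4, one_mul]
    have d4 : d ^ 4 = d := by rw [pow_succ, d3, one_mul]
    have d5 : d ^ 5 = d ^ 2 := by rw [pow_succ, d4, ← pow_two]
    simp only [nrm, Finset.sum_range_succ, Finset.sum_range_zero, hc.mul_pow, c2, e3, e4, e5, d3,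
      d4, d5, mul_one, one_mul, pow_zero, pow_one, zero_add, map_one, map_mul, mul_add, add_mul]
    abel
  have hab2 : (a * b) ^ 2 = 1 := by rw [hab.mul_pow, a2, b2, one_mul]
  rw [key a hda a2] at h1
  rw [key b hdb b2] at h3
  rw [key _ (hda.mul_right hdb) hab2, map_mul] at h4
  exact eq_zero_of_neg h2 (eq_neg_of_mul h1) (eq_neg_of_mul h3) (eq_neg_of_mul h4)

/-- A four-group `⟨x, y⟩` permuted by `d` of order 3 with `1 + d + d² = 0` acts trivially. -/
theorem m1_triv (h2 : Reg2 R) (ρ : T →* R) {d x y : T} (hD : nrm ρ d 3 = 0)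
    (x2 : x * x = 1) (y2 : y * y = 1) (xy : x * y = y * x) (dx : d * x = y * d)
    (dy : d * y = x * y * d) : ρ x = 1 := by
  rw [nrm_three] at hD
  have dxy : x * d = d * (x * y) := by
    calc x * d = y * (x * y * d) := by rw [xy, ← mul_assoc, ← mul_assoc, y2, one_mul]
      _ = d * (x * y) := by rw [← dy, ← mul_assoc, ← dx, mul_assoc]
  have yd : y * d = d * x := dx.symm
  have xyd : x * y * d = d * y := dy.symm
  have c1 : x * d * x = d * y := by
    rw [dxy, mul_assoc, mul_assoc, ← xy, ← mul_assoc x x, x2, one_mul]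
  have c2 : y * d * y = d * (x * y) := by rw [yd, mul_assoc]
  have c3 : x * y * d * (x * y) = d * x := by
    rw [xyd, mul_assoc, xy, ← mul_assoc y y, y2, one_mul]
  have f1 : x * (d * d) * x = d * d * (x * y) := by
    calc x * (d * d) * x = x * d * d * x := by simp only [mul_assoc]
      _ = d * (x * (y * d)) * x := by rw [dxy]; simp only [mul_assoc]
      _ = d * (x * d) * (x * x) := by rw [yd]; simp only [mul_assoc]
      _ = d * d * (x * y) := by rw [x2, dxy, mul_one]; simp only [mul_assoc]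
  have f2 : y * (d * d) * y = d * d * x := by
    calc y * (d * d) * y = y * d * d * y := by simp only [mul_assoc]
      _ = d * (x * d) * y := by rw [yd]; simp only [mul_assoc]
      _ = d * d * x * (y * y) := by rw [dxy]; simp only [mul_assoc]
      _ = d * d * x := by rw [y2, mul_one]
  have f3 : x * y * (d * d) * (x * y) = d * d * y := by
    calc x * y * (d * d) * (x * y) = x * y * d * d * (x * y) := by simp only [mul_assoc]
      _ = d * (y * d) * (x * y) := by rw [xyd]; simp only [mul_assoc]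
      _ = d * d * (x * x) * y := by rw [yd]; simp only [mul_assoc]
      _ = d * d * y := by rw [x2, mul_one]
  have g3 : x * y * (x * y) = 1 := by
    calc x * y * (x * y) = x * y * (y * x) := by rw [xy]
      _ = x * (y * y) * x := by simp only [mul_assoc]
      _ = 1 := by rw [y2, mul_one, x2]
  have e1 : ρ x * (ρ 1 + ρ d + ρ (d * d)) * ρ x = ρ 1 + ρ (d * y) + ρ (d * d * (x * y)) := by
    simp only [mul_add, add_mul, ← map_mul, mul_one, x2, c1, f1]
  have e2 : ρ y * (ρ 1 + ρ d + ρ (d * d)) * ρ y = ρ 1 + ρ (d * (x * y)) + ρ (d * d * x) := by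
    simp only [mul_add, add_mul, ← map_mul, mul_one, y2, c2, f2]
  have e3 : ρ (x * y) * (ρ 1 + ρ d + ρ (d * d)) * ρ (x * y) =
      ρ 1 + ρ (d * x) + ρ (d * d * y) := by
    simp only [mul_add, add_mul, ← map_mul, mul_one, g3, c3, f3]
  rw [hD, mul_zero, zero_mul] at e1 e2 e3
  have tot : (4 : R) + (ρ d + ρ (d * d)) * (ρ 1 + ρ x + ρ y + ρ (x * y)) = 0 := by
    have h4 : (4 : R) = ρ 1 + ρ 1 + ρ 1 + ρ 1 := by rw [map_one]; norm_num
    have := congrArg₂ (· + ·) (congrArg₂ (· + ·) (congrArg₂ (· + ·) hD e1.symm) e2.symm) e3.symm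
    simp only [add_zero] at this
    rw [← this, h4]
    simp only [mul_add, add_mul, ← map_mul, mul_one]
    abel
  have hN : (ρ 1 + ρ x + ρ y + ρ (x * y)) * (1 - ρ x) = 0 := by
    have t1 : y * x = x * y := xy.symm
    have t2 : x * y * x = y := by rw [mul_assoc, t1, ← mul_assoc, x2, one_mul]
    rw [mul_sub, mul_one]
    simp only [add_mul, ← map_mul, one_mul, x2, t1, t2]
    abel
  have h5 : (4 : R) * (1 - ρ x) = 0 := by
    have := congrArg (· * (1 - ρ x)) tot
    simp only [zero_mul] at this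
    rwa [add_mul, mul_assoc, hN, mul_zero, add_zero] at this
  have h6 : (1 - ρ x) + (1 - ρ x) = 0 := by
    apply h2
    rw [← h5]
    noncomm_ring
  exact (sub_eq_zero.mp (h2 _ h6)).symm

/-- M1: `d` of order 3 centralises a four-group `⟨a, b⟩` and permutes `⟨x, y⟩`; elements of order 6
have norm 0. -/
theorem m1 (h2 : Reg2 R) (ρ : T →* R) {d a b x y : T} (hda : Commute d a) (hdb : Commute d b)
    (hab : Commute a b) (d3 : d ^ 3 = 1) (a2 : a ^ 2 = 1) (b2 : b ^ 2 = 1)
    (h1 : nrm ρ (d * a) 6 = 0) (h3 : nrm ρ (d * b) 6 = 0) (h4 : nrm ρ (d * (a * b)) 6 = 0)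
    (x2 : x * x = 1) (y2 : y * y = 1) (xy : x * y = y * x) (dx : d * x = y * d)
    (dy : d * y = x * y * d) : ρ x = 1 :=
  m1_triv h2 ρ (m1_D h2 ρ hda hdb hab d3 a2 b2 h1 h3 h4) x2 y2 xy dx dy

/-- M2: a quaternion group whose elements of order 4 have norm 0: the involution is `-1`. -/
theorem m2 (h2 : Reg2 R) (ρ : T →* R) {i j z : T} (hi : i * i = z) (hj : j * j = z)
    (hij : i * j * (i * j) = z)
    (h1 : nrm ρ i 4 = 0) (h3 : nrm ρ j 4 = 0) (h4 : nrm ρ (i * j) 4 = 0) :
    ρ z = -1 := by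
  have key : ∀ c : T, c * c = z → nrm ρ c 4 = (1 + ρ z) * (1 + ρ c) := by
    intro c hc
    rw [nrm_four, hc]
    simp only [add_mul, mul_add, mul_one, one_mul, map_one, map_mul]
    abel
  rw [key i hi] at h1
  rw [key j hj] at h3
  rw [key _ hij, map_mul] at h4
  have := eq_zero_of_neg h2 (eq_neg_of_mul h1) (eq_neg_of_mul h3) (eq_neg_of_mul h4)
  exact (neg_eq_of_add_eq_zero_right this).symm

/-- If `ρ z = -1` then commutators with `z` act trivially. -/
theorem comm_triv (ρ : T →* R) {z : T} (hz : ρ z = -1) (g : T) : ρ (g * z * g⁻¹ * z⁻¹) = 1 := by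
  have hz' : ρ z⁻¹ = -1 := by
    have h : ρ z * ρ z⁻¹ = 1 := by rw [← map_mul, mul_inv_cancel, map_one]
    rw [hz, neg_mul, one_mul] at h
    exact neg_eq_iff_eq_neg.mp h
  have hg : ρ g * ρ g⁻¹ = 1 := by rw [← map_mul, mul_inv_cancel, map_one]
  simp only [map_mul, hz, hz']
  simp [hg]

/-- The Frobenius identity: `t` acts on the finite group `φ P` as `α`, all `α ^ i`, `0 < i < n`, are
fixed point free. -/
theorem frob_id (ρ : T →* R) {P : Type*} [Group P] [Fintype P] (φ : P →* T) (α : P →* P) (t : T)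
    (n : ℕ) (hn : 0 < n) (hα : ∀ p, t * φ p * t⁻¹ = φ (α p))
    (hf : ∀ i, 0 < i → i < n → ∀ p, α^[i] p = p → p = 1) :
    ∑ p : P, ρ (φ p) * nrm ρ t n * ρ (φ p)⁻¹ =
      (Fintype.card P : R) + (∑ p : P, ρ (φ p)) * (nrm ρ t n - 1) := by
  have hit : ∀ i p, t ^ i * φ p * (t ^ i)⁻¹ = φ (α^[i] p) := by
    intro i
    induction i with
    | zero => intro p; simp
    | succ i ih =>
      intro p
      rw [Function.iterate_succ', Function.comp_apply, ← hα, ← ih]
      simp only [pow_succ', mul_inv_rev, mul_assoc]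
  have hmul : ∀ i (p q : P), α^[i] (p * q) = α^[i] p * α^[i] q := by
    intro i
    induction i with
    | zero => intro p q; rfl
    | succ i ih => intro p q; simp only [Function.iterate_succ', Function.comp_apply, ih, map_mul]
  have hinv : ∀ i (p : P), α^[i] p⁻¹ = (α^[i] p)⁻¹ := by
    intro i
    induction i with
    | zero => intro p; rfl
    | succ i ih => intro p; simp only [Function.iterate_succ', Function.comp_apply, ih, map_inv]
  have hbij : ∀ i, 0 < i → i < n → Function.Bijective fun p : P => p * (α^[i] p)⁻¹ := by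
    intro i h0 hi
    rw [Fintype.bijective_iff_injective_and_card]
    refine ⟨fun p q h => ?_, rfl⟩
    simp only at h
    have h' : q⁻¹ * p = α^[i] (q⁻¹ * p) := by
      rw [hmul, hinv]
      calc q⁻¹ * p = q⁻¹ * (p * (α^[i] p)⁻¹) * α^[i] p := by group
        _ = (α^[i] q)⁻¹ * α^[i] p := by rw [h]; group
    have := hf i h0 hi _ h'.symm
    rw [inv_mul_eq_one] at this
    exact this.symm
  have hsum : ∀ i, 0 < i → i < n →
      ∑ p : P, ρ (φ p) * ρ (t ^ i) * ρ (φ p)⁻¹ = (∑ p : P, ρ (φ p)) * ρ (t ^ i) := by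
    intro i h0 hi
    rw [← (hbij i h0 hi).sum_comp (fun p => ρ (φ p)), Finset.sum_mul]
    refine Finset.sum_congr rfl fun p _ => ?_
    rw [← map_mul, ← map_mul, ← map_mul]
    congr 1
    rw [map_mul, map_inv, ← hit i p]
    group
  have hone : ∑ p : P, ρ (φ p) * ρ (t ^ 0) * ρ (φ p)⁻¹ = (Fintype.card P : R) := by
    rw [pow_zero, map_one]
    have : ∀ p : P, ρ (φ p) * 1 * ρ (φ p)⁻¹ = 1 := by
      intro p
      rw [mul_one, ← map_mul, mul_inv_cancel, map_one]
    rw [Finset.sum_congr rfl fun p _ => this p, Finset.sum_const, nsmul_eq_mul, mul_one]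
    rfl
  obtain ⟨m, rfl⟩ : ∃ m, n = m + 1 := ⟨n - 1, by omega⟩
  unfold nrm
  simp only [Finset.mul_sum, Finset.sum_mul]
  rw [Finset.sum_comm, Finset.sum_range_succ', hone]
  have h1 : ∀ i ∈ Finset.range m, ∑ p : P, ρ (φ p) * ρ (t ^ (i + 1)) * ρ (φ p)⁻¹ =
      (∑ p : P, ρ (φ p)) * ρ (t ^ (i + 1)) := fun i hi =>
    hsum (i + 1) (Nat.succ_pos _) (by have := Finset.mem_range.mp hi; omega)
  rw [Finset.sum_congr rfl h1, ← Finset.mul_sum, Finset.sum_range_succ' (n := m), pow_zero,
    map_one, add_sub_cancel_right, add_comm, Finset.sum_mul]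

/-- M3: if moreover `t` has norm 0, then `φ P` acts trivially. -/
theorem m3 (ρ : T →* R) {P : Type*} [Group P] [Fintype P] (φ : P →* T) (α : P →* P) (t : T)
    (n : ℕ) (hn : 0 < n) (hα : ∀ p, t * φ p * t⁻¹ = φ (α p))
    (hf : ∀ i, 0 < i → i < n → ∀ p, α^[i] p = p → p = 1) (ht : nrm ρ t n = 0)
    (hP : ∀ a : R, (Fintype.card P : R) * a = 0 → a = 0) (x : P) : ρ (φ x) = 1 := by
  have h := frob_id ρ φ α t n hn hα hf
  rw [ht] at h
  simp only [mul_zero, zero_mul, Finset.sum_const_zero, zero_sub, mul_neg, mul_one] at h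
  have hN : (Fintype.card P : R) = ∑ p : P, ρ (φ p) := by
    rw [eq_comm, ← sub_eq_add_neg, sub_eq_zero] at h
    exact h
  have h1 : (∑ p : P, ρ (φ p)) * (ρ (φ x) - 1) = 0 := by
    rw [mul_sub, mul_one, Finset.sum_mul, sub_eq_zero]
    simp only [← map_mul]
    exact (Group.mulRight_bijective x).sum_comp (fun p => ρ (φ p))
  rw [← hN] at h1
  exact sub_eq_zero.mp (hP _ h1)

end Cfsg.Agent.H359.Ring
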