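import Mathlib
import Cfsg.Agent.H359.Ring

/-!
# Spectra contained in `{1, ..., 10, 12, 15}`: the action on a normal elementary abelian subgroup
-/

set_option autoImplicit false

namespace Cfsg.Agent.H359

open Cfsg.Agent.H359.Ring

/-- The spectrum of `Sp₆(2)`. -/
def Om : Finset ℕ := {1, 2, 3, 4, 5, 6, 7, 8, 9, 10, 12, 15}

/-- All element orders are in `Om`. -/
def Sp (X : Type*) [Group X] : Prop := ∀ x : X, orderOf x ∈ Om

theorem Om_dvd {m n : ℕ} (hn : n ∈ Om) (h : m ∣ n) : m ∈ Om := by
  have h15 : n ≤ 15 := by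
    simp only [Om, Finset.mem_insert, Finset.mem_singleton] at hn
    omega
  have hm : m ≤ n := Nat.le_of_dvd (by
    rcases Nat.eq_zero_or_pos n with h0 | h0
    · subst h0; exact absurd hn (by decide)
    · exact h0) h
  revert hn h
  have : ∀ n ≤ 15, ∀ m ≤ n, n ∈ Om → m ∣ n → m ∈ Om := by decide
  exact this n h15 m hm

theorem Sp.of_surjective {X Y : Type*} [Group X] [Group Y] (h : Sp X) (f : X →* Y)
    (hf : Function.Surjective f) : Sp Y := by
  intro y
  obtain ⟨x, rfl⟩ := hf y
  exact Om_dvd (h x) (orderOf_map_dvd f x)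

theorem Sp.of_injective {X Y : Type*} [Group X] [Group Y] (h : Sp Y) (f : X →* Y)
    (hf : Function.Injective f) : Sp X := by
  intro x
  rw [← orderOf_injective f hf x]
  exact h _

theorem Sp.quot {X : Type*} [Group X] (h : Sp X) (N : Subgroup X) [N.Normal] : Sp (X ⧸ N) :=
  h.of_surjective (QuotientGroup.mk' N) (QuotientGroup.mk'_surjective N)

theorem Sp.sub {X : Type*} [Group X] (h : Sp X) (H : Subgroup X) : Sp H :=
  h.of_injective H.subtype H.subtype_injective

/-- A module of characteristic `r` for `X` all of whose split-like extensions have spectrum in `Om`: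
`t` of order `m` with `r m ∉ Om` has norm 0. -/
structure Mod (r : ℕ) {X : Type*} [Group X] {W : Type*} [AddCommGroup W]
    (ρ : X →* AddMonoid.End W) : Prop where
  char : ∀ w : W, r • w = 0
  norm : ∀ t : X, r * orderOf t ∉ Om → nrm ρ t (orderOf t) = 0

theorem Mod.comp {r : ℕ} {X Y : Type*} [Group X] [Group Y] {W : Type*} [AddCommGroup W]
    {ρ : X →* AddMonoid.End W} (h : Mod r ρ) (f : Y →* X) (hf : Function.Injective f) :
    Mod r (ρ.comp f) := by
  refine ⟨h.char, fun t ht => ?_⟩
  have h1 := h.norm (f t) (by rwa [orderOf_injective f hf])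
  rw [orderOf_injective f hf] at h1
  simpa [nrm] using h1

universe u

/-- `X` has no faithful module `Mod r`. -/
def Bad (r : ℕ) (X : Type*) [Group X] : Prop :=
  ∀ (W : Type u) [AddCommGroup W] [Finite W] [Nontrivial W] (ρ : X →* AddMonoid.End W),
    Mod r ρ → ∃ x : X, x ≠ 1 ∧ ρ x = 1

theorem Bad.mono {r : ℕ} {X Y : Type*} [Group X] [Group Y] (h : Bad.{u} r X) (f : X →* Y)
    (hf : Function.Injective f) : Bad.{u} r Y := by
  intro W _ _ _ ρ hρ
  obtain ⟨x, hx, h1⟩ := h W (ρ.comp f) (hρ.comp f hf)
  exact ⟨f x, fun h => hx (hf (by rw [h, map_one])), h1⟩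

/-- A simple group with `Bad r` and an element of order 7 has no module `Mod r` at all
(`r = 2, 3, 5`). -/
theorem Bad.elim {r : ℕ} {X : Type*} [Group X] [IsSimpleGroup X] (h : Bad.{u} r X)
    (hr : r = 2 ∨ r = 3 ∨ r = 5) {z : X} (hz : orderOf z = 7) (W : Type u) [AddCommGroup W]
    [Finite W] [Nontrivial W] (ρ : X →* AddMonoid.End W) (hρ : Mod r ρ) : False := by
  obtain ⟨x, hx, h1⟩ := h W ρ hρ
  have hk : ρ.ker = ⊤ := by
    rcases (inferInstance : ρ.ker.Normal).eq_bot_or_eq_top with h | h
    · exfalso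
      apply hx
      have : x ∈ ρ.ker := h1
      rwa [h, Subgroup.mem_bot] at this
    · exact h
  have h7 : nrm ρ z 7 = 0 := by
    rw [← hz]
    apply hρ.norm
    rw [hz]
    rcases hr with rfl | rfl | rfl <;> decide
  have hone : ∀ y, ρ y = 1 := fun y => by
    have : y ∈ ρ.ker := by rw [hk]; trivial
    exact this
  have h7' : (7 : ℕ) • (1 : AddMonoid.End W) = 0 := by
    rw [← h7]
    simp [nrm, hone]
  obtain ⟨w, hw⟩ := exists_ne (0 : W)
  have h7w : (7 : ℕ) • w = 0 := by
    have := DFunLike.congr_fun h7' w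
    simpa using this
  apply hw
  have hrw := hρ.char w
  have hc : Nat.Coprime 7 r := by rcases hr with rfl | rfl | rfl <;> decide
  have hd : addOrderOf w ∣ Nat.gcd 7 r :=
    Nat.dvd_gcd (addOrderOf_dvd_of_nsmul_eq_zero h7w) (addOrderOf_dvd_of_nsmul_eq_zero hrw)
  rw [hc] at hd
  have := Nat.dvd_one.mp hd
  exact AddMonoid.addOrderOf_eq_one_iff.mp this

section lift

variable {H : Type u} [Group H]

/-- A commutative normal subgroup as a commutative group. -/
abbrev commOf (V : Subgroup H) (hV : ∀ a ∈ V, ∀ b ∈ V, a * b = b * a) : CommGroup V :=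
  { (inferInstance : Group V) with mul_comm := fun a b => Subtype.ext (hV a a.2 b b.2) }

theorem exists_mod (V : Subgroup H) [hn : V.Normal] (hV : ∀ a ∈ V, ∀ b ∈ V, a * b = b * a)
    [Finite H] (hne : V ≠ ⊥) (r : ℕ) (hr : r.Prime) (hVr : ∀ a ∈ V, a ^ r = 1) (hH : Sp H) :
    ∃ (W : Type u) (_ : AddCommGroup W) (_ : Finite W) (_ : Nontrivial W)
      (ρ : H ⧸ V →* AddMonoid.End W), Mod r ρ := by
  let _ : CommGroup V := commOf V hV
  let c : H → V → V := fun h v => ⟨h * v * h⁻¹, hn.conj_mem v v.2 h⟩
  have c_mul : ∀ h v w, c h (v * w) = c h v * c h w := by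
    intro h v w
    apply Subtype.ext
    change h * (v * w) * h⁻¹ = h * v * h⁻¹ * (h * w * h⁻¹)
    group
  have c_one : ∀ h, c h 1 = 1 := by
    intro h
    apply Subtype.ext
    change h * 1 * h⁻¹ = 1
    group
  let f : H → AddMonoid.End (Additive V) := fun h =>
    { toFun := fun v => Additive.ofMul (c h v.toMul)
      map_zero' := by
        change Additive.ofMul (c h 1) = 0
        rw [c_one]
        rfl
      map_add' := fun v w => by
        change Additive.ofMul (c h (v.toMul * w.toMul)) = _
        rw [c_mul]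
        rfl }
  let F : H →* AddMonoid.End (Additive V) :=
    { toFun := f
      map_one' := by
        ext v
        change (1 : H) * (v.toMul : V) * 1⁻¹ = (v.toMul : V)
        group
      map_mul' := fun a b => by
        ext v
        change a * b * (v.toMul : V) * (a * b)⁻¹ = a * (b * (v.toMul : V) * b⁻¹) * a⁻¹
        group }
  have hF : ∀ x ∈ V, F x = 1 := by
    intro x hx
    ext v
    change x * (v.toMul : V) * x⁻¹ = (v.toMul : V)
    rw [hV x hx _ (v.toMul).2, mul_inv_cancel_right]
  have hnt : Nontrivial (Additive V) := by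
    change Nontrivial V
    exact (Subgroup.nontrivial_iff_ne_bot V).mpr hne
  refine ⟨Additive V, inferInstance, inferInstanceAs (Finite V), hnt, QuotientGroup.lift V F hF,
    ⟨fun w => ?_, fun t ht => ?_⟩⟩
  · apply Subtype.ext
    change ((w.toMul ^ r : V) : H) = 1
    rw [Subgroup.coe_pow]
    exact hVr _ (w.toMul).2
  · obtain ⟨h, rfl⟩ := QuotientGroup.mk_surjective t
    set m := orderOf (h : H ⧸ V) with hm
    have hm0 : m ≠ 0 := by
      rw [hm]
      exact (orderOf_pos _).ne'
    -- every element of the coset has order `m`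
    have key : ∀ g : H, (g : H ⧸ V) = h → g ^ m = 1 := by
      intro g hg
      have h1 : m ∣ orderOf g := by
        rw [hm, ← hg]
        exact orderOf_map_dvd (QuotientGroup.mk' V) g
      have h2 : g ^ m ∈ V := by
        rw [← QuotientGroup.eq_one_iff, QuotientGroup.mk_pow, hg]
        exact pow_orderOf_eq_one _
      have h3 : orderOf g ∣ m * r := by
        apply orderOf_dvd_of_pow_eq_one
        rw [pow_mul]
        exact hVr _ h2
      obtain ⟨k, hk⟩ := h1
      have h4 : k ∣ r := by
        rw [hk] at h3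
        exact Nat.dvd_of_mul_dvd_mul_left (Nat.pos_of_ne_zero hm0) h3
      rcases (Nat.dvd_prime hr).mp h4 with rfl | rfl
      · rw [mul_one] at hk
        rw [← hk]
        exact pow_orderOf_eq_one g
      · exact absurd (by rw [mul_comm, ← hk]; exact hH g) ht
    have hprod : ∀ (n : ℕ) (v : V),
        ((v : H) * h) ^ n = (((∑ i ∈ Finset.range n, F (h ^ i)) (Additive.ofMul v)).toMul : V) *
          h ^ n := by
      intro n v
      induction n with
      | zero => simp
      | succ n ih =>
        rw [pow_succ, ih, Finset.sum_range_succ]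
        have h1 : (((∑ i ∈ Finset.range n, F (h ^ i)) + F (h ^ n)) (Additive.ofMul v)).toMul =
            (((∑ i ∈ Finset.range n, F (h ^ i)) (Additive.ofMul v)).toMul : V) *
              c (h ^ n) v := rfl
        rw [h1, Subgroup.coe_mul]
        change _ = _ * (h ^ n * v * (h ^ n)⁻¹) * h ^ (n + 1)
        rw [pow_succ]
        group
    ext v
    have h1 := hprod m v.toMul
    rw [key h rfl, mul_one, key _ (by
      rw [QuotientGroup.mk_mul, (QuotientGroup.eq_one_iff _).mpr (v.toMul).2, one_mul])] at h1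
    have h2 : nrm (QuotientGroup.lift V F hF) (h : H ⧸ V) m =
        ∑ i ∈ Finset.range m, F (h ^ i) := by
      unfold nrm
      rfl
    rw [h2]
    exact h1.symm

end lift

end Cfsg.Agent.H359
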