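import Mathlib
import Cfsg.Agent.H359.Two

/-!
# Characteristic 2: `S₈` and `A₉`
-/

set_option autoImplicit false
set_option linter.unusedSimpArgs false
set_option linter.style.haveILetI false

namespace Cfsg.Agent.H359

open Cfsg.Agent.H359.Ring

universe u

variable {T : Type*} [Group T] {R : Type*} [Ring R]

theorem nrm_mul (ρ : T →* R) {a b : T} {m n : ℕ} (hab : Commute a b) (ha : a ^ m = 1)
    (hb : b ^ n = 1) (hmn : m.Coprime n) (hm : 0 < m) (hn : 0 < n) :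
    nrm ρ (a * b) (m * n) = nrm ρ a m * nrm ρ b n := by
  unfold nrm
  rw [Finset.sum_mul_sum, ← Finset.sum_product']
  have hpa : ∀ k, a ^ (k % m) = a ^ k := fun k => by
    conv_rhs => rw [← Nat.mod_add_div k m, pow_add, pow_mul, ha, one_pow, mul_one]
  have hpb : ∀ k, b ^ (k % n) = b ^ k := fun k => by
    conv_rhs => rw [← Nat.mod_add_div k n, pow_add, pow_mul, hb, one_pow, mul_one]
  refine Finset.sum_nbij (fun k => (k % m, k % n)) ?_ ?_ ?_ ?_
  · intro k _
    simp [Nat.mod_lt _ hm, Nat.mod_lt _ hn]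
  · intro k hk l hl h
    simp only [Finset.coe_range, Set.mem_Iio] at hk hl
    simp only [Prod.mk.injEq] at h
    have h1 : k ≡ l [MOD m * n] := (Nat.modEq_and_modEq_iff_modEq_mul hmn).mp ⟨h.1, h.2⟩
    exact Nat.ModEq.eq_of_lt_of_lt h1 hk hl
  · rintro ⟨i, j⟩ h
    simp only [Finset.coe_product, Finset.coe_range, Set.mem_prod, Set.mem_Iio] at h
    obtain ⟨x, hx1, hx2⟩ := Nat.chineseRemainder hmn i j
    refine ⟨x % (m * n), ?_, ?_⟩
    · simp only [Finset.coe_range, Set.mem_Iio]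
      exact Nat.mod_lt _ (Nat.mul_pos hm hn)
    · simp only [Nat.mod_mul_right_mod, Nat.mod_mul_left_mod, Prod.mk.injEq]
      exact ⟨by rw [show x % m = i % m from hx1, Nat.mod_eq_of_lt h.1],
        by rw [show x % n = j % n from hx2, Nat.mod_eq_of_lt h.2]⟩
  · intro k _
    rw [← map_mul, hpa, hpb, hab.mul_pow]

theorem nrm_conj (ρ : T →* R) (g t : T) (n : ℕ) :
    nrm ρ (g * t * g⁻¹) n = ρ g * nrm ρ t n * ρ g⁻¹ := by
  unfold nrm
  rw [Finset.mul_sum, Finset.sum_mul]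
  refine Finset.sum_congr rfl fun i _ => ?_
  rw [conj_pow, map_mul, map_mul]

/-- The homomorphism `x ↦ c ^ x`. -/
def cyc {n : ℕ} [NeZero n] (c : T) (hc : c ^ n = 1) : Multiplicative (ZMod n) →* T where
  toFun x := c ^ (x.toAdd.val)
  map_one' := by simp
  map_mul' x y := by
    have hpc : ∀ k, c ^ (k % n) = c ^ k := fun k => by
      conv_rhs => rw [← Nat.mod_add_div k n, pow_add, pow_mul, hc, one_pow, mul_one]
    rw [toAdd_mul, ZMod.val_add, hpc, pow_add]

theorem cyc_apply {n : ℕ} [NeZero n] (c : T) (hc : c ^ n = 1) (x : Multiplicative (ZMod n)) :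
    cyc c hc x = c ^ (x.toAdd.val) := rfl

/-- `D = 0` from a Frobenius group of order 20. -/
theorem D_zero_F20 (h2 : ∀ a : R, a + a = 0) (ρ : T →* R) (f h d : T) (f5 : f ^ 5 = 1)
    (hf : Commute f d) (hh : Commute h d) (hfh : h * f * h⁻¹ = f ^ 2) (h4 : h ^ 4 = 1)
    (d3 : d ^ 3 = 1) (n12 : nrm ρ (h * d) 12 = 0) (n15 : nrm ρ (f * d) 15 = 0) :
    nrm ρ d 3 = 0 := by
  have e12 : nrm ρ h 4 * nrm ρ d 3 = 0 := by
    rw [← nrm_mul ρ hh h4 d3 (by decide) (by decide) (by decide)]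
    exact n12
  have e15 : nrm ρ f 5 * nrm ρ d 3 = 0 := by
    rw [← nrm_mul ρ hf f5 d3 (by decide) (by decide) (by decide)]
    exact n15
  have hid := frob_id ρ (cyc (n := 5) f f5) (powMonoidHom 2) h 4 (by norm_num)
    (fun p => by
      rw [cyc_apply, cyc_apply, ← conj_pow, hfh, ← pow_mul]
      have hpc : ∀ k, f ^ (k % 5) = f ^ k := fun k => by
        conv_rhs => rw [← Nat.mod_add_div k 5, pow_add, pow_mul, f5, one_pow, mul_one]
      rw [powMonoidHom_apply, toAdd_pow, two_nsmul, ZMod.val_add, hpc, two_mul])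
    (by
      intro i h0 hi p
      have : i = 1 ∨ i = 2 ∨ i = 3 := by omega
      rcases this with rfl | rfl | rfl <;> revert p <;> decide)
  have hF : ∑ p : Multiplicative (ZMod 5), ρ (cyc (n := 5) f f5 p) = nrm ρ f 5 := by
    unfold nrm
    rw [← Fin.sum_univ_eq_sum_range (fun i => ρ (f ^ i)) 5]
    rfl
  rw [hF] at hid
  have hcd : ∀ p : Multiplicative (ZMod 5), ρ (cyc (n := 5) f f5 p)⁻¹ * nrm ρ d 3 =
      nrm ρ d 3 * ρ (cyc (n := 5) f f5 p)⁻¹ := by
    intro p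
    unfold nrm
    rw [Finset.mul_sum, Finset.sum_mul]
    refine Finset.sum_congr rfl fun i _ => ?_
    rw [← map_mul, ← map_mul, cyc_apply]
    congr 1
    exact ((hf.pow_pow _ i).inv_left).eq
  have h1 := congrArg (· * nrm ρ d 3) hid
  simp only [Finset.sum_mul, add_mul, mul_assoc, hcd, sub_mul, one_mul, mul_sub] at h1
  have e12' : ∀ a b : R, a * (nrm ρ h 4 * (nrm ρ d 3 * b)) = 0 := fun a b => by
    rw [← mul_assoc (nrm ρ h 4), e12, zero_mul, mul_zero]
  simp only [e12', e12, e15, Finset.sum_const_zero, mul_zero, zero_sub, neg_zero, add_zero] at h1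
  have h5 : (Fintype.card (Multiplicative (ZMod 5)) : R) = 1 := by
    rw [Fintype.card_multiplicative, ZMod.card]
    have := h2 1
    calc ((5 : ℕ) : R) = (1 + 1) + (1 + 1) + 1 := by norm_num
      _ = 1 := by rw [this]; simp
  rw [h5, one_mul] at h1
  exact h1.symm

/-- The last step in characteristic 2. -/
theorem two_final {W : Type*} [AddCommGroup W] [Finite W] (h2 : ∀ w : W, w + w = 0)
    (ρ : T →* AddMonoid.End W) (z d1 d2 π : T) (hz : z ^ 7 = 1) (hZ : nrm ρ z 7 = 0)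
    (hcz : (d1 * d2) * z = z ^ 2 * (d1 * d2)) (h12 : Commute d1 d2) (h1 : d1 ^ 3 = 1)
    (h3 : d2 ^ 3 = 1) (hD1 : nrm ρ d1 3 = 0) (hD2 : nrm ρ d2 3 = 0)
    (hπ : π * (d1 * d2) = (d1 * d2 ^ 2) * π) : Nat.card W = 1 := by
  have r2 : ∀ a : AddMonoid.End W, a + a = 0 := fun a => by
    ext w
    exact h2 (a w)
  have z2 : ∀ w : AddMonoid.End W, (2 : ℤ) • w = 0 := fun w => by rw [two_zsmul]; exact r2 w
  have z3 : ∀ w : AddMonoid.End W, (3 : ℤ) • w = w := fun w => by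
    rw [show (3 : ℤ) = 2 + 1 by norm_num, add_smul, z2, zero_add, one_smul]
  have z4 : ∀ w : AddMonoid.End W, (4 : ℤ) • w = 0 := fun w => by
    rw [show (4 : ℤ) = 2 + 2 by norm_num, add_smul, z2, zero_add]
  have z5 : ∀ w : AddMonoid.End W, (5 : ℤ) • w = w := fun w => by
    rw [show (5 : ℤ) = 4 + 1 by norm_num, add_smul, z4, zero_add, one_smul]
  have zmod : ∀ k, ρ (z ^ (k % 7)) = ρ (z ^ k) := fun k => by
    congr 1
    conv_rhs => rw [← Nat.mod_add_div k 7, pow_add, pow_mul, hz, one_pow, mul_one]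
  have zz : ∀ i j, ρ (z ^ i) * ρ (z ^ j) = ρ (z ^ ((i + j) % 7)) := fun i j => by
    rw [zmod, pow_add, map_mul]
  have hZ' : (1 : AddMonoid.End W) + ρ (z ^ 1) + ρ (z ^ 2) + ρ (z ^ 3) + ρ (z ^ 4) + ρ (z ^ 5) +
      ρ (z ^ 6) = 0 := by
    rw [← hZ]
    simp [nrm, Finset.sum_range_succ]
  have uu : (1 + ρ (z ^ 2) + ρ (z ^ 5)) * (1 + ρ (z ^ 2) + ρ (z ^ 5)) =
      1 + ρ (z ^ 4) + ρ (z ^ 3) := by
    simp only [mul_add, add_mul, mul_one, one_mul, zz]
    norm_num
    abel_nf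
    simp only [z2, z3, z4, z5, add_zero, zero_add]
  have q1 : ∀ a : AddMonoid.End W, 1 + a + a * a = 0 → a * a = 1 + a := by
    intro a ha
    have := congrArg (1 + a + ·) ha
    simp only [add_zero] at this
    rw [← this, ← add_assoc, r2, zero_add]
  have hd1 : ρ d1 * ρ d1 = 1 + ρ d1 := q1 _ (by
    have := hD1
    rw [nrm_three] at this
    simpa using this)
  have hd2 : ρ d2 * ρ d2 = 1 + ρ d2 := q1 _ (by
    have := hD2
    rw [nrm_three] at this
    simpa using this)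
  have hcm : ρ d2 * ρ d1 = ρ d1 * ρ d2 := by
    rw [← map_mul, ← map_mul, h12.eq]
  refine card_eq_one h2 (ρ (d1 * d2)) (1 + ρ (z ^ 2) + ρ (z ^ 5)) (ρ (d1 * d2 ^ 2)) (ρ π) (ρ π⁻¹)
    ?_ ?_ ?_ ?_ ?_ ?_ ?_ ?_
  · rw [← map_mul, ← map_mul, ← map_one ρ]
    congr 1
    calc d1 * d2 * (d1 * d2) * (d1 * d2) = (d1 * d2) ^ 3 := by simp only [pow_succ, pow_zero, one_mul]
      _ = 1 := by rw [h12.mul_pow, h1, h3, one_mul]
  · rw [uu]
    have e : (1 + ρ (z ^ 4) + ρ (z ^ 3)) * (1 + ρ (z ^ 2) + ρ (z ^ 5)) +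
        (1 + ρ (z ^ 1) + ρ (z ^ 2) + ρ (z ^ 3) + ρ (z ^ 4) + ρ (z ^ 5) + ρ (z ^ 6)) =
        1 + ρ (z ^ 2) + ρ (z ^ 5) + 1 := by
      simp only [mul_add, add_mul, mul_one, one_mul, zz]
      norm_num
      abel_nf
      simp only [z2, z3, z4, z5, add_zero, zero_add]
    rwa [hZ', add_zero] at e
  · rw [uu]
    simp only [mul_add, add_mul, mul_one, one_mul, ← map_mul]
    have hsc : SemiconjBy (d1 * d2) z (z ^ 2) := hcz
    have a1 : d1 * d2 * z ^ 2 = z ^ 4 * (d1 * d2) := by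
      have := (hsc.pow_right 2).eq
      rwa [← pow_mul] at this
    have a2 : d1 * d2 * z ^ 5 = z ^ 3 * (d1 * d2) := by
      have := (hsc.pow_right 5).eq
      rwa [← pow_mul, show 2 * 5 = 7 + 3 by norm_num, pow_add, hz, one_mul] at this
    rw [a1, a2]
  · rw [map_mul, map_mul, map_pow]
    have b1 : ρ d2 ^ 2 = 1 + ρ d2 := by rw [pow_two, hd2]
    have b2 : ρ d1 * ρ d2 * (ρ d1 * ρ d2) = (1 + ρ d1) * (1 + ρ d2) := by
      rw [mul_assoc, ← mul_assoc (ρ d2), hcm, mul_assoc (ρ d1) (ρ d2), hd2, ← mul_assoc, hd1]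
    have b3 : ρ d1 * (1 + ρ d2) * (ρ d1 * (1 + ρ d2)) = (1 + ρ d1) * ρ d2 := by
      have b4 : (1 + ρ d2) * ρ d1 = ρ d1 * (1 + ρ d2) := by
        rw [add_mul, mul_add, one_mul, mul_one, hcm]
      have b5 : (1 + ρ d2) * (1 + ρ d2) = ρ d2 := by
        simp only [add_mul, mul_add, one_mul, mul_one, hd2]
        abel_nf
        simp only [z2, z3, z4, z5, add_zero, zero_add]
      rw [mul_assoc, ← mul_assoc (1 + ρ d2), b4, mul_assoc (ρ d1) (1 + ρ d2), b5, ← mul_assoc, hd1]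
    rw [b1, b2, b3]
    simp only [mul_add, add_mul, mul_one, one_mul]
    abel_nf
    simp only [z2, z3, z4, z5, add_zero, zero_add]
  · rw [← map_mul, ← map_mul, ← map_one ρ]
    congr 1
    have h12' : Commute d1 (d2 ^ 2) := h12.pow_right 2
    calc d1 * d2 ^ 2 * (d1 * d2 ^ 2) * (d1 * d2 ^ 2) = (d1 * d2 ^ 2) ^ 3 := by
          simp only [pow_succ, pow_zero, one_mul, mul_assoc]
      _ = 1 := by rw [h12'.mul_pow, h1, ← pow_mul, mul_comm 2 3, pow_mul, h3, one_pow, one_mul]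
  · rw [← map_mul, ← map_mul, hπ]
  · rw [← map_mul, mul_inv_cancel, map_one]
  · rw [← map_mul, inv_mul_cancel, map_one]

/-- On the image of `D`, `E₉ = ⟨c₁, c₂⟩` acts trivially. -/
theorem E9_triv (h2 : ∀ a : R, a + a = 0) (ρ : T →* R) (c1 c2 h d : T) (h1 : c1 ^ 3 = 1)
    (h3 : c2 ^ 3 = 1) (h12 : Commute c1 c2) (hh : Commute h d) (hc1 : Commute c1 d)
    (hc2 : Commute c2 d) (g1 : h * c1 * h⁻¹ = c2) (g2 : h * c2 * h⁻¹ = c1⁻¹)
    (h4 : h ^ 4 = 1) (d3 : d ^ 3 = 1) (n12 : nrm ρ (h * d) 12 = 0) :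
    ρ c1 * nrm ρ d 3 = nrm ρ d 3 := by
  have e12 : nrm ρ h 4 * nrm ρ d 3 = 0 := by
    rw [← nrm_mul ρ hh h4 d3 (by decide) (by decide) (by decide)]
    exact n12
  let φ : Multiplicative (ZMod 3) × Multiplicative (ZMod 3) →* T :=
    (cyc (n := 3) c1 h1).noncommCoprod (cyc (n := 3) c2 h3) (fun m n => by
      rw [cyc_apply, cyc_apply]
      exact h12.pow_pow _ _)
  let α : Multiplicative (ZMod 3) × Multiplicative (ZMod 3) →*
      Multiplicative (ZMod 3) × Multiplicative (ZMod 3) :=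
    { toFun := fun p => (p.2⁻¹, p.1)
      map_one' := rfl
      map_mul' := fun p q => by
        simp only [Prod.snd_mul, Prod.fst_mul, mul_inv, Prod.mk_mul_mk] }
  have hφ : ∀ p, φ p = c1 ^ (p.1.toAdd.val) * c2 ^ (p.2.toAdd.val) := fun p => rfl
  have hinv : ∀ x : Multiplicative (ZMod 3), c1 ^ (x⁻¹.toAdd.val) = (c1 ^ (x.toAdd.val))⁻¹ :=
    fun x => (map_inv (cyc (n := 3) c1 h1) x)
  have hid := frob_id ρ φ α h 4 (by norm_num)
    (fun p => by
      rw [hφ, hφ]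
      change h * (c1 ^ _ * c2 ^ _) * h⁻¹ = c1 ^ ((p.2⁻¹).toAdd.val) * c2 ^ (p.1.toAdd.val)
      rw [hinv, ← conj_mul, ← conj_pow, ← conj_pow, g1, g2, inv_pow]
      exact ((h12.pow_pow _ _).symm.inv_right).eq)
    (by
      intro i h0 hi p
      have : i = 1 ∨ i = 2 ∨ i = 3 := by omega
      rcases this with rfl | rfl | rfl <;> revert p <;> decide)
  have hcd : ∀ p, ρ (φ p)⁻¹ * nrm ρ d 3 = nrm ρ d 3 * ρ (φ p)⁻¹ := by
    intro p
    unfold nrm
    rw [Finset.mul_sum, Finset.sum_mul]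
    refine Finset.sum_congr rfl fun i _ => ?_
    rw [← map_mul, ← map_mul, hφ]
    congr 1
    exact ((((hc1.pow_pow _ i).mul_left (hc2.pow_pow _ i))).inv_left).eq
  have h5 := congrArg (· * nrm ρ d 3) hid
  simp only [Finset.sum_mul, add_mul, mul_assoc, hcd, sub_mul, one_mul, mul_sub] at h5
  have e12' : ∀ a b : R, a * (nrm ρ h 4 * (nrm ρ d 3 * b)) = 0 := fun a b => by
    rw [← mul_assoc (nrm ρ h 4), e12, zero_mul, mul_zero]
  simp only [e12', e12, Finset.sum_const_zero, mul_zero, zero_sub, add_zero] at h5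
  have h9 : (Fintype.card (Multiplicative (ZMod 3) × Multiplicative (ZMod 3)) : R) = 1 := by
    rw [Fintype.card_prod, Fintype.card_multiplicative, ZMod.card]
    have := h2 1
    calc ((3 * 3 : ℕ) : R) = (1 + 1) + (1 + 1) + (1 + 1) + (1 + 1) + 1 := by norm_num
      _ = 1 := by rw [this]; simp
  rw [h9, one_mul] at h5
  have hN : (∑ p, ρ (φ p)) * nrm ρ d 3 = nrm ρ d 3 := by
    rw [Finset.sum_mul]
    rw [eq_comm, ← sub_eq_add_neg, sub_eq_zero] at h5
    exact h5.symm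
  have hc : ρ c1 * ∑ p, ρ (φ p) = ∑ p, ρ (φ p) := by
    rw [Finset.mul_sum]
    have : c1 = φ (Multiplicative.ofAdd 1, 1) := by
      rw [hφ]
      simp [ZMod.val_one]
    rw [this]
    simp only [← map_mul]
    exact (Group.mulLeft_bijective _).sum_comp (fun p => ρ (φ p))
  rw [← hN, ← mul_assoc, hc]

theorem Mod.nrm_zero {r n : ℕ} {X W : Type*} [Group X] [AddCommGroup W]
    {ρ : X →* AddMonoid.End W} (h : Mod r ρ) (t : X) (ht : orderOf t = n) (hn : r * n ∉ Om) :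
    nrm ρ t n = 0 := by
  rw [← ht]
  exact h.norm t (by rwa [ht])

open Equiv

abbrev s8 (l : List (Fin 8 × Fin 8)) : Perm (Fin 8) := sw l

theorem orderOf_mul' {X : Type*} [Group X] {a b : X} {m n : ℕ} (h : a * b = b * a)
    (ha : orderOf a = m) (hb : orderOf b = n) (hmn : m.Coprime n) : orderOf (a * b) = m * n := by
  rw [(show Commute a b from h).orderOf_mul_eq_mul_orderOf_of_coprime (by rwa [ha, hb]), ha, hb]

theorem fact_prime_five : Fact (Nat.Prime 5) := ⟨by norm_num⟩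
theorem fact_prime_seven : Fact (Nat.Prime 7) := ⟨by norm_num⟩

theorem bad_two_s8 : Bad.{u} 2 (Perm (Fin 8)) := by
  intro W _ _ _ ρ hρ
  haveI := fact_prime_five
  haveI := fact_prime_seven
  exfalso
  have h2 : ∀ w : W, w + w = 0 := fun w => by rw [← two_nsmul]; exact hρ.char w
  have r2 : ∀ a : AddMonoid.End W, a + a = 0 := fun a => by
    ext w
    exact h2 (a w)
  -- `d = (5 6 7)`
  have hD : nrm ρ (s8 [(5, 6), (6, 7)]) 3 = 0 := by
    have o3 : orderOf (s8 [(5, 6), (6, 7)]) = 3 := orderOf_eq_prime (by decide +kernel) (by decide +kernel)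
    refine D_zero_F20 r2 ρ (s8 [(0, 1), (1, 2), (2, 3), (3, 4)]) (s8 [(1, 2), (2, 4), (4, 3)]) _
      (by decide +kernel) (by unfold Commute SemiconjBy; decide +kernel) (by unfold Commute SemiconjBy; decide +kernel)
      (by decide +kernel) (by decide +kernel) (by decide +kernel) ?_ ?_
    · refine hρ.nrm_zero _ ?_ (by decide +kernel)
      exact orderOf_mul' (m := 4) (n := 3) (by decide +kernel)
        (orderOf_eq_prime_pow (p := 2) (n := 1) (by decide +kernel) (by decide +kernel)) o3 (by decide +kernel)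
    · refine hρ.nrm_zero _ ?_ (by decide +kernel)
      exact orderOf_mul' (m := 5) (n := 3) (by decide +kernel)
        (orderOf_eq_prime (by decide +kernel) (by decide +kernel)) o3 (by decide +kernel)
  have hconj : ∀ g t : Perm (Fin 8), g * s8 [(5, 6), (6, 7)] * g⁻¹ = t → nrm ρ t 3 = 0 := by
    intro g t h
    rw [← h, nrm_conj, hD, mul_zero, zero_mul]
  have h1 := hconj (s8 [(5, 1), (6, 2), (7, 4)]) (s8 [(1, 2), (2, 4)]) (by decide +kernel)
  have h3 := hconj (s8 [(5, 3), (3, 7)]) (s8 [(3, 6), (6, 5)]) (by decide +kernel)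
  have hZ : nrm ρ (s8 [(0, 1), (1, 2), (2, 3), (3, 4), (4, 5), (5, 6)]) 7 = 0 :=
    hρ.nrm_zero _ (orderOf_eq_prime (by decide +kernel) (by decide +kernel)) (by decide +kernel)
  have := two_final h2 ρ _ _ _ (s8 [(5, 6)]) (by decide +kernel) hZ (by decide +kernel)
    (by unfold Commute SemiconjBy; decide +kernel) (by decide +kernel) (by decide +kernel) h1 h3 (by decide +kernel)
  have h4 : 1 < Nat.card W := Finite.one_lt_card
  omega

theorem bad_s8 {r : ℕ} (hr : r = 3 ∨ r = 5) : Bad.{u} r (Perm (Fin 8)) := by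
  refine bad_of_m1 hr (X := Perm (Fin 8)) (s8 [(3, 4), (4, 5)]) (s8 [(0, 1), (2, 6)])
    (s8 [(0, 2), (1, 6)]) (s8 [(3, 4), (5, 6)])
    (s8 [(4, 5), (3, 6)]) ?_ ?_ ?_ ?_ ?_ ?_ ?_ ?_ ?_ ?_ ?_ ?_ ?_ ?_ ?_ ?_
    <;> decide +kernel

theorem bad_alt8 {r : ℕ} (hr : r = 3 ∨ r = 5) : Bad.{u} r (alternatingGroup (Fin 8)) := by
  refine bad_of_m1 hr (X := alternatingGroup (Fin 8))
    (am [(3, 4), (4, 5)] (by decide) (by decide)) (am [(0, 1), (2, 6)] (by decide) (by decide))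
    (am [(0, 2), (1, 6)] (by decide) (by decide)) (am [(3, 4), (5, 6)] (by decide) (by decide))
    (am [(4, 5), (3, 6)] (by decide) (by decide)) ?_ ?_ ?_ ?_ ?_ ?_ ?_ ?_ ?_ ?_ ?_ ?_ ?_ ?_ ?_ ?_
    <;> decide +kernel

theorem bad_alt9 {r : ℕ} (hr : r = 3 ∨ r = 5) : Bad.{u} r (alternatingGroup (Fin 9)) := by
  refine bad_of_m1 hr (X := alternatingGroup (Fin 9))
    (am [(3, 4), (4, 5)] (by decide) (by decide)) (am [(0, 1), (2, 6)] (by decide) (by decide))
    (am [(0, 2), (1, 6)] (by decide) (by decide)) (am [(3, 4), (5, 6)] (by decide) (by decide))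
    (am [(4, 5), (3, 6)] (by decide) (by decide)) ?_ ?_ ?_ ?_ ?_ ?_ ?_ ?_ ?_ ?_ ?_ ?_ ?_ ?_ ?_ ?_
    <;> decide +kernel

/-- elements of `A₉` -/
abbrev a9 (l : List (Fin 9 × Fin 9)) (h : l.length % 2 = 0 := by decide)
    (h' : ∀ p ∈ l, p.1 ≠ p.2 := by decide) : alternatingGroup (Fin 9) := am l h h'

theorem bad_two_alt9 : Bad.{u} 2 (alternatingGroup (Fin 9)) := by
  intro W _ _ _ ρ hρ
  haveI := fact_prime_five
  haveI := fact_prime_seven
  exfalso
  have h2 : ∀ w : W, w + w = 0 := fun w => by rw [← two_nsmul]; exact hρ.char w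
  have r2 : ∀ a : AddMonoid.End W, a + a = 0 := fun a => by
    ext w
    exact h2 (a w)
  set d := a9 [(6, 7), (7, 8)] with hd
  have o3 : orderOf d = 3 := orderOf_eq_prime (by decide +kernel) (by decide +kernel)
  have hE : ρ (a9 [(0, 1), (1, 2)]) * nrm ρ d 3 = nrm ρ d 3 := by
    refine E9_triv r2 ρ (a9 [(0, 1), (1, 2)]) (a9 [(3, 4), (4, 5)])
      (a9 [(0, 3), (1, 4), (4, 2), (2, 5)]) d (by decide +kernel) (by decide +kernel)
      (by unfold Commute SemiconjBy; decide +kernel) (by unfold Commute SemiconjBy; decide +kernel)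
      (by unfold Commute SemiconjBy; decide +kernel) (by unfold Commute SemiconjBy; decide +kernel)
      (by decide +kernel) (by decide +kernel) (by decide +kernel) (by decide +kernel) ?_
    refine hρ.nrm_zero _ ?_ (by decide)
    exact orderOf_mul' (m := 4) (n := 3) (by decide +kernel)
      (orderOf_eq_prime_pow (p := 2) (n := 1) (by decide +kernel) (by decide +kernel)) o3
      (by decide)
  have hE2 : ρ (a9 [(2, 3), (3, 4)]) * nrm ρ d 3 = nrm ρ d 3 := by
    set g := a9 [(0, 2), (2, 4), (1, 3), (3, 5)] with hg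
    have e1 : a9 [(2, 3), (3, 4)] = g * a9 [(0, 1), (1, 2)] * g⁻¹ := by decide +kernel
    have e2 : d = g * d * g⁻¹ := by decide +kernel
    have e3 : nrm ρ d 3 = ρ g * nrm ρ d 3 * ρ g⁻¹ := by
      rw [← nrm_conj, ← e2]
    have e4 : ρ g⁻¹ * ρ g = 1 := by rw [← map_mul, inv_mul_cancel, map_one]
    rw [e1, map_mul, map_mul]
    conv_lhs => rw [e3]
    calc ρ g * ρ (a9 [(0, 1), (1, 2)]) * ρ g⁻¹ * (ρ g * nrm ρ d 3 * ρ g⁻¹)
        = ρ g * (ρ (a9 [(0, 1), (1, 2)]) * ((ρ g⁻¹ * ρ g) * nrm ρ d 3)) * ρ g⁻¹ := by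
          simp only [mul_assoc]
      _ = nrm ρ d 3 := by rw [e4, one_mul, hE, ← e3]
  have hf : ρ (a9 [(0, 1), (1, 2), (2, 3), (3, 4)]) * nrm ρ d 3 = nrm ρ d 3 := by
    have e1 : a9 [(0, 1), (1, 2), (2, 3), (3, 4)] = a9 [(0, 1), (1, 2)] * a9 [(2, 3), (3, 4)] := by
      decide +kernel
    rw [e1, map_mul, mul_assoc, hE2, hE]
  have hD : nrm ρ d 3 = 0 := by
    have e15 : nrm ρ (a9 [(0, 1), (1, 2), (2, 3), (3, 4)]) 5 * nrm ρ d 3 = 0 := by
      rw [← nrm_mul ρ (by unfold Commute SemiconjBy; decide +kernel) (by decide +kernel)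
        (by decide +kernel) (by decide) (by decide) (by decide)]
      refine hρ.nrm_zero _ ?_ (by decide)
      exact orderOf_mul' (m := 5) (n := 3) (by decide +kernel)
        (orderOf_eq_prime (by decide +kernel) (by decide +kernel)) o3 (by decide)
    have e5 : ∀ i, ρ (a9 [(0, 1), (1, 2), (2, 3), (3, 4)] ^ i) * nrm ρ d 3 = nrm ρ d 3 := by
      intro i
      induction i with
      | zero => simp
      | succ i ih => rw [pow_succ, map_mul, mul_assoc, hf, ih]
    unfold nrm at e15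
    rw [Finset.sum_mul] at e15
    change ∑ i ∈ Finset.range 5, ρ (a9 [(0, 1), (1, 2), (2, 3), (3, 4)] ^ i) * nrm ρ d 3 = 0 at e15
    simp only [e5, Finset.sum_const, Finset.card_range] at e15
    rw [show 5 = 2 + 2 + 1 by norm_num] at e15
    simpa only [add_smul, two_nsmul, r2, zero_add, one_smul] using e15
  have hconj : ∀ g t : alternatingGroup (Fin 9), g * d * g⁻¹ = t → nrm ρ t 3 = 0 := by
    intro g t h
    rw [← h, nrm_conj, hD, mul_zero, zero_mul]
  have h1 := hconj (a9 [(6, 1), (7, 2), (8, 4), (0, 3)]) (a9 [(1, 2), (2, 4)]) (by decide +kernel)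
  have h3 := hconj (a9 [(6, 3), (3, 7), (8, 5), (0, 1)]) (a9 [(3, 6), (6, 5)]) (by decide +kernel)
  have hZ : nrm ρ (a9 [(0, 1), (1, 2), (2, 3), (3, 4), (4, 5), (5, 6)]) 7 = 0 :=
    hρ.nrm_zero _ (orderOf_eq_prime (by decide +kernel) (by decide +kernel)) (by decide)
  have := two_final h2 ρ _ _ _ (a9 [(5, 6), (7, 8)]) (by decide +kernel) hZ (by decide +kernel)
    (by unfold Commute SemiconjBy; decide +kernel) (by decide +kernel) (by decide +kernel) h1 h3
    (by decide +kernel)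
  have h4 : 1 < Nat.card W := Finite.one_lt_card
  omega

end Cfsg.Agent.H359
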