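import Mathlib
import Cfsg.Agent.H359.Two2
import Cfsg.Agent.H374.SpChar
import Cfsg.Agent.StandardComponent.SpTwoAut

/-!
# The spectrum of `Sp₆(2)` and its modules
-/

set_option autoImplicit false

namespace Cfsg.Agent.H359

open Cfsg.Agent.H359.Ring

universe u

/-- Abstract version of `bad_two_s8`. -/
theorem bad_two_of {X : Type*} [Group X] (f h d g1 g2 z π d1 d2 : X) (f5 : f ^ 5 = 1) (f1 : f ≠ 1)
    (h4 : h ^ 4 = 1) (h2' : h ^ 2 ≠ 1) (d3 : d ^ 3 = 1) (d0 : d ≠ 1) (fd : f * d = d * f)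
    (hd : h * d = d * h) (hfh : h * f * h⁻¹ = f ^ 2) (e1 : g1 * d * g1⁻¹ = d1)
    (e2 : g2 * d * g2⁻¹ = d2) (z7 : z ^ 7 = 1) (z1 : z ≠ 1)
    (hcz : (d1 * d2) * z = z ^ 2 * (d1 * d2)) (h12 : d1 * d2 = d2 * d1)
    (hπ : π * (d1 * d2) = (d1 * d2 ^ 2) * π) : Bad.{u} 2 X := by
  intro W _ _ _ ρ hρ
  have := fact_prime_five
  have := fact_prime_seven
  exfalso
  have h2 : ∀ w : W, w + w = 0 := fun w => by rw [← two_nsmul]; exact hρ.char w
  have r2 : ∀ a : AddMonoid.End W, a + a = 0 := fun a => by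
    ext w
    exact h2 (a w)
  have o3 : orderOf d = 3 := orderOf_eq_prime d3 d0
  have hD : nrm ρ d 3 = 0 := by
    refine D_zero_F20 r2 ρ f h _ f5 fd hd hfh h4 d3 ?_ ?_
    · refine hρ.nrm_zero _ ?_ (by decide +kernel)
      exact orderOf_mul' (m := 4) (n := 3) hd
        (orderOf_eq_prime_pow (p := 2) (n := 1) (by simpa using h2') (by simpa using h4)) o3
        (by decide +kernel)
    · refine hρ.nrm_zero _ ?_ (by decide +kernel)
      exact orderOf_mul' (m := 5) (n := 3) fd (orderOf_eq_prime f5 f1) o3 (by decide +kernel)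
  have hconj : ∀ g t : X, g * d * g⁻¹ = t → t ^ 3 = 1 ∧ nrm ρ t 3 = 0 := by
    intro g t h
    rw [← h, nrm_conj, hD, mul_zero, zero_mul, conj_pow, d3, mul_one, mul_inv_cancel]
    exact ⟨rfl, rfl⟩
  have hZ : nrm ρ z 7 = 0 := hρ.nrm_zero _ (orderOf_eq_prime z7 z1) (by decide +kernel)
  have := two_final h2 ρ _ _ _ π z7 hZ hcz h12 (hconj _ _ e1).1 (hconj _ _ e2).1 (hconj _ _ e1).2
    (hconj _ _ e2).2 hπ
  have h4 : 1 < Nat.card W := Finite.one_lt_card
  omega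

namespace SpSix

open Matrix

/-- index -/
def ix : Fin 3 ⊕ Fin 3 → ℕ
  | .inl i => i
  | .inr i => 3 + i

/-- a matrix from its rows -/
def sm (l : List ℕ) : Matrix (Fin 3 ⊕ Fin 3) (Fin 3 ⊕ Fin 3) (ZMod 2) :=
  Matrix.of fun i j => if (l.getD (ix i) 0).testBit (ix j) then 1 else 0

/-- an element of `Sp₆(2)` -/
def se (l : List ℕ) (h : sm l * J (Fin 3) (ZMod 2) * (sm l)ᵀ = J (Fin 3) (ZMod 2)) :
    symplecticGroup (Fin 3) (ZMod 2) := ⟨sm l, SymplecticGroup.mem_iff.mpr h⟩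

def ef := se [19, 18, 4, 27, 10, 32] (by decide +kernel)
def eh := se [8, 24, 4, 11, 26, 32] (by decide +kernel)
def ed := se [1, 2, 32, 8, 16, 36] (by decide +kernel)
def eg1 := se [61, 43, 26, 29, 50, 9] (by decide +kernel)
def eg2 := se [1, 20, 54, 8, 6, 4] (by decide +kernel)
def ed1 := se [8, 24, 4, 27, 10, 32] (by decide +kernel)
def ed2 := se [1, 20, 50, 8, 6, 54] (by decide +kernel)
def ez := se [53, 52, 36, 61, 10, 6] (by decide +kernel)
def ep := se [1, 2, 36, 8, 16, 32] (by decide +kernel)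
def m1d := se [1, 20, 4, 8, 22, 38] (by decide +kernel)
def m1a := se [53, 62, 56, 8, 16, 28] (by decide +kernel)
def m1b := se [1, 55, 49, 60, 16, 21] (by decide +kernel)
def m1x := se [1, 18, 36, 8, 16, 32] (by decide +kernel)
def m1y := se [1, 52, 50, 8, 32, 16] (by decide +kernel)
def e8 := se [49, 48, 32, 57, 10, 6] (by decide +kernel)
def e9 := se [31, 61, 62, 5, 44, 21] (by decide +kernel)
def e10 := se [19, 18, 36, 27, 10, 32] (by decide +kernel)
def e12 := se [3, 2, 36, 11, 60, 6] (by decide +kernel)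
def e15 := se [19, 18, 32, 27, 10, 36] (by decide +kernel)

theorem bad_two : Bad.{u} 2 (symplecticGroup (Fin 3) (ZMod 2)) := by
  refine bad_two_of ef eh ed eg1 eg2 ez ep ed1 ed2 ?_ ?_ ?_ ?_ ?_ ?_ ?_ ?_ ?_ ?_ ?_ ?_ ?_ ?_ ?_ ?_
    <;> decide +kernel

theorem bad_odd {r : ℕ} (hr : r = 3 ∨ r = 5) : Bad.{u} r (symplecticGroup (Fin 3) (ZMod 2)) := by
  refine bad_of_m1 hr m1d m1a m1b m1x m1y ?_ ?_ ?_ ?_ ?_ ?_ ?_ ?_ ?_ ?_ ?_ ?_ ?_ ?_ ?_ ?_
    <;> decide +kernel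

/-! ### The spectrum -/

open Polynomial

/-- the characteristic polynomial -/
noncomputable def p6 (a b c : ZMod 2) : (ZMod 2)[X] :=
  X ^ 6 + C a * X ^ 5 + C b * X ^ 4 + C c * X ^ 3 + C b * X ^ 2 + C a * X + 1

theorem charpoly_six {A : Matrix (Fin 3 ⊕ Fin 3) (Fin 3 ⊕ Fin 3) (ZMod 2)}
    (hA : A ∈ symplecticGroup (Fin 3) (ZMod 2)) : ∃ a b c, A.charpoly = p6 a b c := by
  have hdeg : A.charpoly.natDegree = 6 := by
    rw [Matrix.charpoly_natDegree_eq_dim]; simp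
  have h6 : A.charpoly.coeff 6 = 1 := by
    have := A.charpoly_monic
    rw [Monic, leadingCoeff, hdeg] at this
    exact this
  have h0 : A.charpoly.coeff 0 = 1 := by
    rw [H374.SpChar.coeff_symm hA (i := 0) (j := 6) (by norm_num), h6]
  have h1 : A.charpoly.coeff 1 = A.charpoly.coeff 5 := H374.SpChar.coeff_symm hA (by norm_num)
  have h2 : A.charpoly.coeff 2 = A.charpoly.coeff 4 := H374.SpChar.coeff_symm hA (by norm_num)
  refine ⟨A.charpoly.coeff 5, A.charpoly.coeff 4, A.charpoly.coeff 3, ?_⟩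
  generalize A.charpoly = P at *
  generalize hc3 : P.coeff 3 = c3 at *
  generalize hc4 : P.coeff 4 = c4 at *
  generalize hc5 : P.coeff 5 = c5 at *
  rw [P.as_sum_range_C_mul_X_pow, hdeg]
  simp only [Finset.sum_range_succ, Finset.sum_range_zero, h6, h0, h1, h2, hc3, hc4, hc5, p6]
  simp only [map_one]
  ring

theorem two_poly : (2 : (ZMod 2)[X]) = 0 := by
  exact_mod_cast CharP.cast_eq_zero (ZMod 2)[X] 2

theorem dvd_cases (a b c : ZMod 2) : ∃ n ∈ Om, p6 a b c ∣ X ^ n - C 1 := by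
  have h2 := two_poly
  have h01 : ∀ x : ZMod 2, x = 0 ∨ x = 1 := by decide
  rcases h01 a with rfl | rfl <;> rcases h01 b with rfl | rfl <;> rcases h01 c with rfl | rfl
  · refine ⟨6, by decide, 1, ?_⟩
    simp only [p6, map_zero, map_one]
    linear_combination (-1 : (ZMod 2)[X]) * h2
  · refine ⟨9, by decide, 1 + X ^ 3, ?_⟩
    simp only [p6, map_zero, map_one]
    linear_combination (-(1 + X ^ 3 + X ^ 6) : (ZMod 2)[X]) * h2
  · refine ⟨8, by decide, 1 + X ^ 2, ?_⟩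
    simp only [p6, map_zero, map_one]
    linear_combination (-(1 + X ^ 2 + X ^ 4 + X ^ 6) : (ZMod 2)[X]) * h2
  · refine ⟨15, by decide, 1 + X ^ 2 + X ^ 3 + X ^ 6 + X ^ 7 + X ^ 9, ?_⟩
    simp only [p6, map_zero, map_one]
    linear_combination (-(1 + X ^ 2 + X ^ 3 + X ^ 4 + X ^ 5 + 2 * X ^ 6 + X ^ 7 + X ^ 8 +
      2 * X ^ 9 + X ^ 10 + X ^ 11 + X ^ 12 + X ^ 13) : (ZMod 2)[X]) * h2
  · refine ⟨10, by decide, 1 + X + X ^ 2 + X ^ 3 + X ^ 4, ?_⟩
    simp only [p6, map_zero, map_one]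
    linear_combination (-(1 + X + X ^ 2 + X ^ 3 + X ^ 4 + X ^ 5 + X ^ 6 + X ^ 7 + X ^ 8 +
      X ^ 9) : (ZMod 2)[X]) * h2
  · refine ⟨12, by decide, 1 + X + X ^ 2 + X ^ 4 + X ^ 5 + X ^ 6, ?_⟩
    simp only [p6, map_zero, map_one]
    linear_combination (-(1 + X + X ^ 2 + X ^ 3 + X ^ 4 + 2 * X ^ 5 + 2 * X ^ 6 + 2 * X ^ 7 +
      X ^ 8 + X ^ 9 + X ^ 10 + X ^ 11) : (ZMod 2)[X]) * h2
  · refine ⟨12, by decide, 1 + X + X ^ 3 + X ^ 5 + X ^ 6, ?_⟩
    simp only [p6, map_zero, map_one]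
    linear_combination (-(1 + X + X ^ 2 + X ^ 3 + X ^ 4 + 2 * X ^ 5 + 2 * X ^ 6 + 2 * X ^ 7 +
      X ^ 8 + X ^ 9 + X ^ 10 + X ^ 11) : (ZMod 2)[X]) * h2
  · refine ⟨7, by decide, 1 + X, ?_⟩
    simp only [p6, map_one]
    linear_combination (-(1 + X + X ^ 2 + X ^ 3 + X ^ 4 + X ^ 5 + X ^ 6) : (ZMod 2)[X]) * h2

theorem sp : Sp (symplecticGroup (Fin 3) (ZMod 2)) := by
  rintro ⟨A, hA⟩
  obtain ⟨a, b, c, h⟩ := charpoly_six hA
  obtain ⟨n, hn, hd⟩ := dvd_cases a b c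
  have h1 : A ^ n = 1 := by
    have := H374.SpChar.pow_of_dvd (A := A) (P := p6 a b c)
      (by rw [← h]; exact Matrix.aeval_self_charpoly A) hd
    rwa [one_smul] at this
  refine Om_dvd hn (orderOf_dvd_of_pow_eq_one ?_)
  exact Subtype.ext h1

theorem exists_of_orderOf {G : Type*} [Group G] {g : G} {m n : ℕ} (hg : orderOf g = m)
    (h : n ∣ m) (hm : m ≠ 0) : ∃ x : G, orderOf x = n := by
  obtain ⟨k, rfl⟩ := h
  have hk : k ≠ 0 := by rintro rfl; simp at hm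
  refine ⟨g ^ k, ?_⟩
  rw [orderOf_pow_of_dvd hk (by rw [hg]; exact Dvd.intro_left _ rfl), hg,
    Nat.mul_div_cancel _ (Nat.pos_of_ne_zero hk)]

theorem exists_order_of {G : Type*} [Group G] (h7 : ∃ g : G, orderOf g = 7)
    (h8 : ∃ g : G, orderOf g = 8) (h9 : ∃ g : G, orderOf g = 9) (h10 : ∃ g : G, orderOf g = 10)
    (h12 : ∃ g : G, orderOf g = 12) (h15 : ∃ g : G, orderOf g = 15) :
    ∀ n ∈ Om, ∃ g : G, orderOf g = n := by
  intro n hn
  obtain ⟨g7, h7⟩ := h7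
  obtain ⟨g8, h8⟩ := h8
  obtain ⟨g9, h9⟩ := h9
  obtain ⟨g10, h10⟩ := h10
  obtain ⟨g12, h12⟩ := h12
  obtain ⟨g15, h15⟩ := h15
  simp only [Om, Finset.mem_insert, Finset.mem_singleton] at hn
  rcases hn with rfl | rfl | rfl | rfl | rfl | rfl | rfl | rfl | rfl | rfl | rfl | rfl
  · exact exists_of_orderOf h7 (by norm_num) (by norm_num)
  · exact exists_of_orderOf h8 (by norm_num) (by norm_num)
  · exact exists_of_orderOf h9 (by norm_num) (by norm_num)
  · exact exists_of_orderOf h8 (by norm_num) (by norm_num)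
  · exact exists_of_orderOf h10 (by norm_num) (by norm_num)
  · exact exists_of_orderOf h12 (by norm_num) (by norm_num)
  · exact ⟨g7, h7⟩
  · exact ⟨g8, h8⟩
  · exact ⟨g9, h9⟩
  · exact ⟨g10, h10⟩
  · exact ⟨g12, h12⟩
  · exact ⟨g15, h15⟩

theorem order_of {G : Type*} [Group G] (g : G) (n : ℕ) (hn : 0 < n) (h1 : g ^ n = 1)
    (h2 : ∀ p : ℕ, p.Prime → p ∣ n → g ^ (n / p) ≠ 1) : orderOf g = n :=
  orderOf_eq_of_pow_and_pow_div_prime hn h1 h2

theorem hall : ∀ n ∈ Om, ∃ g : symplecticGroup (Fin 3) (ZMod 2), orderOf g = n := by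
  have p3 : ∀ {n p : ℕ} {a b : ℕ}, p.Prime → p ∣ n → n = a * b → a.Prime → b.Prime → p = a ∨ p = b := by
    intro n p a b hp hd hn ha hb
    subst hn
    rcases (Nat.Prime.dvd_mul hp).mp hd with h | h
    · exact Or.inl ((Nat.prime_dvd_prime_iff_eq hp ha).mp h)
    · exact Or.inr ((Nat.prime_dvd_prime_iff_eq hp hb).mp h)
  refine exists_order_of ⟨ez, ?_⟩ ⟨e8, ?_⟩ ⟨e9, ?_⟩ ⟨e10, ?_⟩ ⟨e12, ?_⟩ ⟨e15, ?_⟩
  · have := fact_prime_seven
    exact orderOf_eq_prime (by decide +kernel) (by decide +kernel)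
  · exact orderOf_eq_prime_pow (p := 2) (n := 2) (by decide +kernel) (by decide +kernel)
  · have : Fact (Nat.Prime 3) := ⟨by norm_num⟩
    exact orderOf_eq_prime_pow (p := 3) (n := 1) (by decide +kernel) (by decide +kernel)
  · refine order_of _ _ (by norm_num) (by decide +kernel) fun p hp hd => ?_
    rcases p3 hp hd (a := 2) (b := 5) (by norm_num) (by norm_num) (by norm_num) with rfl | rfl
    · decide +kernel
    · decide +kernel
  · refine order_of _ _ (by norm_num) (by decide +kernel) fun p hp hd => ?_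
    have h1 : p = 2 ∨ p = 3 := by
      rw [show 12 = 4 * 3 by norm_num] at hd
      rcases (Nat.Prime.dvd_mul hp).mp hd with h | h
      · exact Or.inl ((Nat.prime_dvd_prime_iff_eq hp Nat.prime_two).mp
          (hp.dvd_of_dvd_pow (n := 2) (by norm_num; exact h)))
      · exact Or.inr ((Nat.prime_dvd_prime_iff_eq hp Nat.prime_three).mp h)
    rcases h1 with rfl | rfl
    · decide +kernel
    · decide +kernel
  · refine order_of _ _ (by norm_num) (by decide +kernel) fun p hp hd => ?_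
    rcases p3 hp hd (a := 3) (b := 5) (by norm_num) (by norm_num) (by norm_num) with rfl | rfl
    · decide +kernel
    · decide +kernel

end SpSix

end Cfsg.Agent.H359
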