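import Mathlib
import Cfsg.Agent.H359.SpSix
import Cfsg.Agent.StdO8.Model

/-!
# `Ω₈⁺(2)`: the subgroup `A₉`, modules and element orders
-/

set_option autoImplicit false

namespace Cfsg.Agent.H359.OEight

open Matrix Cfsg.Agent.H359.SpSix
open scoped commutatorElement

universe u

/-- The index type. -/
abbrev I8 : Type := Fin 4 ⊕ Fin 4

/-- The isometry group. -/
abbrev Iso : Subgroup (Matrix.GeneralLinearGroup I8 (ZMod 2)) :=
  Cfsg.isometryGroup (ZMod 2) (Cfsg.quadFormPlus 4 (ZMod 2))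

/-- The group. -/
abbrev Om8 : Subgroup Iso := Cfsg.Omega (ZMod 2) (Cfsg.quadFormPlus 4 (ZMod 2))

/-- index -/
def ix8 : I8 → ℕ
  | .inl i => i
  | .inr i => 4 + i

/-- the matrix `E` -/
def E : Matrix (Fin 9) I8 (ZMod 2) :=
  Matrix.of fun i j => if (([219,249,157,175,190,234,204,8,128] : List ℕ).getD i 0).testBit (ix8 j) then 1 else 0

/-- the matrix `D` -/
def D : Matrix I8 (Fin 9) (ZMod 2) :=
  Matrix.of fun i j => if (([23,58,99,383,15,57,92,255] : List ℕ).getD (ix8 i) 0).testBit j then 1 else 0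

/-- all ones -/
def J9 : Matrix (Fin 9) (Fin 9) (ZMod 2) := Matrix.of fun _ _ => 1

/-- permutation matrix -/
def P (σ : Equiv.Perm (Fin 9)) : Matrix (Fin 9) (Fin 9) (ZMod 2) :=
  Matrix.of fun i j => if i = σ j then 1 else 0

theorem DE : D * E = 1 := by decide +kernel

theorem ED : E * D = 1 + J9 := by decide +kernel

theorem JE : J9 * E = 0 := by decide +kernel

theorem P_one : P 1 = 1 := by
  ext i j
  simp only [P, Matrix.one_apply, Matrix.of_apply, Equiv.Perm.coe_one, id_eq]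
  exact if_congr Iff.rfl rfl rfl

theorem P_mul (σ τ : Equiv.Perm (Fin 9)) : P (σ * τ) = P σ * P τ := by
  ext i j
  simp only [P, Matrix.mul_apply, Matrix.of_apply, Equiv.Perm.coe_mul, Function.comp_apply]
  rw [Finset.sum_eq_single (τ j)]
  · rw [if_pos rfl, mul_one]
    exact if_congr Iff.rfl rfl rfl
  · intro k _ hk
    rw [if_neg hk, mul_zero]
  · simp

theorem J_P (σ : Equiv.Perm (Fin 9)) : J9 * P σ = J9 := by
  ext i j
  simp [P, J9, Matrix.mul_apply]

/-- the matrix of `σ` -/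
def M (σ : Equiv.Perm (Fin 9)) : Matrix I8 I8 (ZMod 2) := D * P σ * E

theorem M_one : M 1 = 1 := by rw [M, P_one, Matrix.mul_one, DE]

theorem M_mul (σ τ : Equiv.Perm (Fin 9)) : M (σ * τ) = M σ * M τ := by
  have h : M σ * M τ = D * P σ * (E * D) * P τ * E := by simp only [M, Matrix.mul_assoc]
  rw [h, ED, Matrix.mul_add, Matrix.add_mul, Matrix.add_mul, Matrix.mul_one]
  have h1 : D * P σ * J9 * P τ * E = 0 := by
    rw [Matrix.mul_assoc (D * P σ) J9, J_P, Matrix.mul_assoc _ J9, JE, Matrix.mul_zero]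
  rw [h1, add_zero, M, P_mul]
  simp only [Matrix.mul_assoc]

theorem E_M (σ : Equiv.Perm (Fin 9)) : E * M σ = P σ * E := by
  have h : E * M σ = (E * D) * P σ * E := by simp only [M, Matrix.mul_assoc]
  rw [h, ED, Matrix.add_mul, Matrix.add_mul, Matrix.one_mul, J_P, JE, add_zero]

/-- the form on `𝔽₂⁹` -/
def Q9 (u : Fin 9 → ZMod 2) : ZMod 2 := ((((Finset.univ.filter fun i => u i = 1).card).choose 2 : ℕ) : ZMod 2)

theorem P_mulVec (σ : Equiv.Perm (Fin 9)) (u : Fin 9 → ZMod 2) (i : Fin 9) :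
    (P σ *ᵥ u) (σ i) = u i := by
  simp [P, Matrix.mulVec, dotProduct]

theorem Q9_P (σ : Equiv.Perm (Fin 9)) (u : Fin 9 → ZMod 2) : Q9 (P σ *ᵥ u) = Q9 u := by
  unfold Q9
  congr 2
  symm
  refine Finset.card_bij (fun i _ => σ i) ?_ ?_ ?_
  · intro i hi
    rw [Finset.mem_filter] at hi ⊢
    exact ⟨Finset.mem_univ _, by rw [P_mulVec]; exact hi.2⟩
  · intro i _ j _ h
    exact σ.injective h
  · intro j hj
    rw [Finset.mem_filter] at hj
    refine ⟨σ⁻¹ j, ?_, by simp⟩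
    rw [Finset.mem_filter]
    refine ⟨Finset.mem_univ _, ?_⟩
    rw [← P_mulVec σ u (σ⁻¹ j)]
    simpa using hj.2

theorem quad_eq (v : I8 → ZMod 2) : Cfsg.quadFormPlus 4 (ZMod 2) v = Q9 (E *ᵥ v) := by
  have h : ∀ a b c d e f g h : ZMod 2, Cfsg.quadFormPlus 4 (ZMod 2) (Sum.elim ![a,b,c,d] ![e,f,g,h]) =
    Q9 (E *ᵥ (Sum.elim ![a,b,c,d] ![e,f,g,h])) := by decide +kernel
  have hv : v = Sum.elim ![v (.inl 0), v (.inl 1), v (.inl 2), v (.inl 3)]
      ![v (.inr 0), v (.inr 1), v (.inr 2), v (.inr 3)] := by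
    funext i
    rcases i with i | i <;> fin_cases i <;> rfl
  rw [hv]
  exact h _ _ _ _ _ _ _ _

theorem quad_M (σ : Equiv.Perm (Fin 9)) (v : I8 → ZMod 2) :
    Cfsg.quadFormPlus 4 (ZMod 2) (M σ *ᵥ v) = Cfsg.quadFormPlus 4 (ZMod 2) v := by
  rw [quad_eq, quad_eq, Matrix.mulVec_mulVec, E_M, ← Matrix.mulVec_mulVec, Q9_P]

/-- the homomorphism to the general linear group -/
def toGL : Equiv.Perm (Fin 9) →* Matrix.GeneralLinearGroup I8 (ZMod 2) where
  toFun σ := ⟨M σ, M σ⁻¹, by rw [← M_mul, mul_inv_cancel, M_one], by rw [← M_mul, inv_mul_cancel, M_one]⟩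
  map_one' := Units.ext M_one
  map_mul' σ τ := Units.ext (M_mul σ τ)

theorem mem_Iso {g : Matrix.GeneralLinearGroup I8 (ZMod 2)} :
    g ∈ Iso ↔ ∀ v, Cfsg.quadFormPlus 4 (ZMod 2) ((g : Matrix I8 I8 (ZMod 2)) *ᵥ v) =
      Cfsg.quadFormPlus 4 (ZMod 2) v :=
  Cfsg.Agent.LieClassical.OrthFinite.mem_isometryGroup_iff

theorem toGL_mem (σ : Equiv.Perm (Fin 9)) : toGL σ ∈ Iso :=
  mem_Iso.mpr (quad_M σ)

theorem M_inj {σ : Equiv.Perm (Fin 9)} (h : M σ = 1) : σ = 1 := by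
  have h1 := E_M σ
  rw [h, Matrix.mul_one] at h1
  ext1 j
  have h2 : ∀ k, E (σ j) k = E j k := by
    intro k
    have := congrFun (congrFun h1 (σ j)) k
    rw [this]
    simp only [P, Matrix.mul_apply, Matrix.of_apply]
    rw [Finset.sum_eq_single j]
    · simp
    · intro i _ hi
      rw [if_neg (fun h => hi (σ.injective h.symm)), zero_mul]
    · simp
  have h3 : ∀ i j : Fin 9, ((E i (.inl 0) = E j (.inl 0) ∧ E i (.inl 1) = E j (.inl 1)) ∧
      (E i (.inl 2) = E j (.inl 2) ∧ E i (.inl 3) = E j (.inl 3))) ∧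
      ((E i (.inr 0) = E j (.inr 0) ∧ E i (.inr 1) = E j (.inr 1)) ∧
      (E i (.inr 2) = E j (.inr 2) ∧ E i (.inr 3) = E j (.inr 3))) → i = j := by decide +kernel
  exact h3 _ _ ⟨⟨⟨h2 _, h2 _⟩, h2 _, h2 _⟩, ⟨h2 _, h2 _⟩, h2 _, h2 _⟩

/-- the homomorphism `A₉ → O` -/
def toIso : alternatingGroup (Fin 9) →* Iso where
  toFun σ := ⟨toGL σ.1, toGL_mem σ.1⟩
  map_one' := Subtype.ext (by simp)
  map_mul' σ τ := Subtype.ext (by simp)

theorem toIso_mem (σ : alternatingGroup (Fin 9)) : toIso σ ∈ Om8 := by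
  have h : commutator (alternatingGroup (Fin 9)) = ⊤ :=
    commutator_alternatingGroup_eq_top (by simp)
  have h1 : σ ∈ commutator (alternatingGroup (Fin 9)) := by rw [h]; exact Subgroup.mem_top _
  have h2 : toIso σ ∈ (commutator (alternatingGroup (Fin 9))).map toIso := Subgroup.mem_map_of_mem _ h1
  rw [commutator_def, Subgroup.map_commutator] at h2
  exact Subgroup.commutator_mono le_top le_top h2

/-- the homomorphism `A₉ → Ω` -/
def toOm : alternatingGroup (Fin 9) →* Om8 where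
  toFun σ := ⟨toIso σ, toIso_mem σ⟩
  map_one' := Subtype.ext (by simp)
  map_mul' σ τ := Subtype.ext (by simp)

theorem toOm_injective : Function.Injective toOm := by
  rw [injective_iff_map_eq_one]
  intro σ h
  have h1 : M σ.1 = 1 := congrArg (fun x : Om8 => ((x.1.1 : Matrix.GeneralLinearGroup I8 (ZMod 2)) :
    Matrix I8 I8 (ZMod 2))) h
  exact Subtype.ext (M_inj h1)

theorem bad {r : ℕ} (hr : r = 2 ∨ r = 3 ∨ r = 5) : Bad.{u} r Om8 := by
  rcases hr with rfl | hr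
  · exact bad_two_alt9.mono toOm toOm_injective
  · exact (bad_alt9 hr).mono toOm toOm_injective

/-! ### Element orders -/

/-- a matrix from its rows -/
def om (l : List ℕ) : Matrix I8 I8 (ZMod 2) :=
  Matrix.of fun i j => if (l.getD (ix8 i) 0).testBit (ix8 j) then 1 else 0

/-- an isometry from its rows and the rows of its inverse -/
def oe (l l' : List ℕ) (h1 : om l * om l' = 1) (h2 : om l' * om l = 1)
    (h : ∀ a b c d e f g h : ZMod 2,
      Cfsg.quadFormPlus 4 (ZMod 2) (om l *ᵥ (Sum.elim ![a,b,c,d] ![e,f,g,h])) =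
      Cfsg.quadFormPlus 4 (ZMod 2) (Sum.elim ![a,b,c,d] ![e,f,g,h])) : Iso :=
  ⟨⟨om l, om l', h1, h2⟩, mem_Iso.mpr fun v => by
    have hv : v = Sum.elim ![v (.inl 0), v (.inl 1), v (.inl 2), v (.inl 3)]
        ![v (.inr 0), v (.inr 1), v (.inr 2), v (.inr 3)] := by
      funext i
      rcases i with i | i <;> fin_cases i <;> rfl
    rw [hv]
    exact h _ _ _ _ _ _ _ _⟩

def oA : Iso := oe [231, 40, 215, 175, 130, 236, 1, 235] [64, 186, 90, 219, 220, 217, 210, 170]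
  (by decide +kernel) (by decide +kernel) (by decide +kernel)

def oC : Iso := oe [236, 66, 208, 44, 217, 32, 237, 73] [65, 150, 125, 85, 13, 32, 148, 157]
  (by decide +kernel) (by decide +kernel) (by decide +kernel)

def o8 : Om8 := ⟨⁅oA, oC⁆, Subgroup.commutator_mem_commutator (Subgroup.mem_top _) (Subgroup.mem_top _)⟩

theorem o8_coe : ((o8.1.1 : Matrix.GeneralLinearGroup I8 (ZMod 2)) : Matrix I8 I8 (ZMod 2)) =
    om [37, 220, 231, 93, 97, 40, 32, 41] := by
  have h : ((o8.1.1 : Matrix.GeneralLinearGroup I8 (ZMod 2)) : Matrix I8 I8 (ZMod 2)) =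
    om [231, 40, 215, 175, 130, 236, 1, 235] * om [236, 66, 208, 44, 217, 32, 237, 73] *
    om [64, 186, 90, 219, 220, 217, 210, 170] * om [65, 150, 125, 85, 13, 32, 148, 157] := rfl
  rw [h]
  decide +kernel

theorem ext_iff' {x y : Om8} : x = y ↔ ((x.1.1 : Matrix.GeneralLinearGroup I8 (ZMod 2)) : Matrix I8 I8 (ZMod 2)) =
    ((y.1.1 : Matrix.GeneralLinearGroup I8 (ZMod 2)) : Matrix I8 I8 (ZMod 2)) :=
  ⟨fun h => by rw [h], fun h => Subtype.ext (Subtype.ext (Units.ext h))⟩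

theorem coe_pow' (x : Om8) (n : ℕ) : (((x ^ n).1.1 : Matrix.GeneralLinearGroup I8 (ZMod 2)) : Matrix I8 I8 (ZMod 2)) =
    ((x.1.1 : Matrix.GeneralLinearGroup I8 (ZMod 2)) : Matrix I8 I8 (ZMod 2)) ^ n := rfl

theorem orderOf_o8 : orderOf o8 = 8 := by
  refine orderOf_eq_prime_pow (p := 2) (n := 2) ?_ ?_
  · rw [ext_iff', coe_pow', o8_coe]
    decide +kernel
  · rw [ext_iff', coe_pow', o8_coe]
    decide +kernel

theorem hall : ∀ n ∈ Om, ∃ g : Om8, orderOf g = n := by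
  have key : ∀ n : ℕ, (∃ g : alternatingGroup (Fin 9), orderOf g = n) → ∃ g : Om8, orderOf g = n := by
    rintro n ⟨g, hg⟩
    exact ⟨toOm g, by rw [orderOf_injective toOm toOm_injective, hg]⟩
  have p3 : ∀ {n p : ℕ} {a b : ℕ}, p.Prime → p ∣ n → n = a * b → a.Prime → b.Prime → p = a ∨ p = b := by
    intro n p a b hp hd hn ha hb
    subst hn
    rcases (Nat.Prime.dvd_mul hp).mp hd with h | h
    · exact Or.inl ((Nat.prime_dvd_prime_iff_eq hp ha).mp h)
    · exact Or.inr ((Nat.prime_dvd_prime_iff_eq hp hb).mp h)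
  refine exists_order_of (key 7 ⟨a9 [(0, 1), (1, 2), (2, 3), (3, 4), (4, 5), (5, 6)], ?_⟩) ⟨o8, orderOf_o8⟩
    (key 9 ⟨a9 [(0, 1), (1, 2), (2, 3), (3, 4), (4, 5), (5, 6), (6, 7), (7, 8)], ?_⟩)
    (key 10 ⟨a9 [(0, 1), (1, 2), (2, 3), (3, 4), (5, 6), (7, 8)], ?_⟩)
    (key 12 ⟨a9 [(0, 1), (1, 2), (2, 3), (4, 5), (5, 6), (7, 8)], ?_⟩)
    (key 15 ⟨a9 [(0, 1), (1, 2), (2, 3), (3, 4), (5, 6), (6, 7)], ?_⟩)
  · have := fact_prime_seven
    exact orderOf_eq_prime (by decide +kernel) (by decide +kernel)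
  · have : Fact (Nat.Prime 3) := ⟨by norm_num⟩
    exact orderOf_eq_prime_pow (p := 3) (n := 1) (by decide +kernel) (by decide +kernel)
  · refine order_of _ _ (by norm_num) (by decide +kernel) fun p hp hd => ?_
    rcases p3 hp hd (a := 2) (b := 5) (by norm_num) (by norm_num) (by norm_num) with rfl | rfl
    · decide +kernel
    · decide +kernel
  · refine order_of _ _ (by norm_num) (by decide +kernel) fun p hp hd => ?_
    have h1 : p = 2 ∨ p = 3 := by
      rw [show 12 = 4 * 3 by norm_num] at hd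
      rcases (Nat.Prime.dvd_mul hp).mp hd with h | h
      · exact Or.inl ((Nat.prime_dvd_prime_iff_eq hp Nat.prime_two).mp
          (hp.dvd_of_dvd_pow (n := 2) (by norm_num; exact h)))
      · exact Or.inr ((Nat.prime_dvd_prime_iff_eq hp Nat.prime_three).mp h)
    rcases h1 with rfl | rfl
    · decide +kernel
    · decide +kernel
  · refine order_of _ _ (by norm_num) (by decide +kernel) fun p hp hd => ?_
    rcases p3 hp hd (a := 3) (b := 5) (by norm_num) (by norm_num) (by norm_num) with rfl | rfl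
    · decide +kernel
    · decide +kernel

end Cfsg.Agent.H359.OEight
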