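import Mathlib
import Cfsg.Agent.H359.OEightA
import Cfsg.Agent.LargeExtra.Dickson

/-!
# `Ω₈⁺(2)`: isometries whose characteristic polynomial has the root `1`
-/

set_option autoImplicit false

namespace Cfsg.Agent.H359.OEight

open Cfsg.Agent.StdO8.Model (V q B B_comm B_self B_add_left B_add_right B_zero_left B_zero_right
  add_self sub_eq nondeg q_add q_zero z2 finrank_V)
open Module Polynomial

/-- Isometries. -/
def Isom (φ : End (ZMod 2) V) : Prop := ∀ v, q (φ v) = q v

theorem Isom.polar {φ : End (ZMod 2) V} (h : Isom φ) (u v : V) : B (φ u) (φ v) = B u v := by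
  have h1 := q_add u v
  have h2 := q_add (φ u) (φ v)
  rw [← map_add, h, h, h, h1] at h2
  have : ∀ a b c d : ZMod 2, a + b + c = a + b + d → d = c := by decide
  exact this _ _ _ _ h2

theorem Isom.mul {φ ψ : End (ZMod 2) V} (h : Isom φ) (h' : Isom ψ) : Isom (φ * ψ) := fun v => by
  rw [Module.End.mul_apply, h, h']

theorem Isom.pow {φ : End (ZMod 2) V} (h : Isom φ) (n : ℕ) : Isom (φ ^ n) := by
  induction n with
  | zero => intro v; rw [pow_zero]; rfl
  | succ n ih => rw [pow_succ]; exact ih.mul h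

theorem end_add_self (M : End (ZMod 2) V) : M + M = 0 :=
  LinearMap.ext fun v => add_self (M v)

theorem B_sub_left (u v w : V) : B (u - v) w = B u w + B v w := by rw [sub_eq, B_add_left]

theorem B_sub_right (u v w : V) : B u (v - w) = B u v + B u w := by rw [sub_eq, B_add_right]

/-- The adjoint of `R - 1`. -/
theorem adj {R S : End (ZMod 2) V} (hR : Isom R) (h1 : R * S = 1) (x y : V) :
    B ((R - 1) x) y = B x ((R - 1) (S y)) := by
  have hy : R (S y) = y := by rw [← Module.End.mul_apply, h1]; rfl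
  have h2 : B (R x) y = B x (S y) := by
    conv_lhs => rw [← hy]
    exact hR.polar _ _
  rw [LinearMap.sub_apply, B_sub_left, Module.End.one_apply, h2, LinearMap.sub_apply, B_sub_right,
    hy, Module.End.one_apply, add_comm]

/-- If `(R - 1)³ = 0` then `B ((R - 1)² u, u) = 0`. -/
theorem alt_of_cube {R S : End (ZMod 2) V} (hR : Isom R) (h1 : R * S = 1) (h2 : S * R = 1)
    (h3 : (R - 1) ^ 3 = 0) (u : V) : B (((R - 1) ^ 2 : End (ZMod 2) V) u) u = 0 := by
  set N := R - 1 with hN
  have hNS : N * S = S * N := by rw [hN, sub_mul, mul_sub, h1, h2, one_mul, mul_one]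
  have hS : Isom S := fun v => by
    have : R (S v) = v := by rw [← Module.End.mul_apply, h1]; rfl
    conv_rhs => rw [← this]
    exact (hR _).symm
  have e1 : B ((N ^ 2) u) u = B (N u) (S (N u)) := by
    rw [pow_two, Module.End.mul_apply, hN, adj hR h1, ← hN, ← Module.End.mul_apply, hNS,
      Module.End.mul_apply]
  set w := S (N u) with hw
  have e2 : N u = R w := by rw [hw, ← Module.End.mul_apply, h1]; rfl
  have e3 : R w = N w + w := by rw [hN, LinearMap.sub_apply, Module.End.one_apply, sub_add_cancel]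
  have e4 : B (N w) w = 0 := by
    have : w = N (S u) := by rw [hw, ← Module.End.mul_apply, ← hNS, Module.End.mul_apply]
    have h5 : B (N w) w = B (N w) (N (S u)) := by rw [← this]
    rw [h5, ← adj hR h1, ← hN]
    have h6 : N (N w) = S ((N ^ 3) u) := by
      rw [hw]
      simp only [← Module.End.mul_apply]
      congr 1
      have hc : Commute N S := hNS
      rw [pow_three, ← mul_assoc N N, ← mul_assoc (N * N) S, (hc.mul_left hc).eq]
      simp only [mul_assoc]
    rw [h6, h3, LinearMap.zero_apply, map_zero, B_zero_left]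
  rw [e1, e2, e3, B_add_left, e4, B_self, add_zero]

/-- An alternating endomorphism of rank at most one is zero. -/
theorem eq_zero_of_rank {M : End (ZMod 2) V} (hM : ∀ u, B (M u) u = 0)
    (hr : finrank (ZMod 2) (LinearMap.range M) ≤ 1) : M = 0 := by
  by_contra hne
  obtain ⟨u, hu⟩ : ∃ u, M u ≠ 0 := by
    by_contra hcon
    push Not at hcon
    exact hne (LinearMap.ext hcon)
  obtain ⟨v, hv⟩ : ∃ v, B (M u) v ≠ 0 := by
    by_contra hcon
    push Not at hcon
    exact hu (nondeg hcon)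
  have hsymm : B (M u) v = B (M v) u := by
    have h := hM (u + v)
    rw [map_add, B_add_left, B_add_right, B_add_right, hM, hM] at h
    have : ∀ a b : ZMod 2, 0 + a + (b + 0) = 0 → a = b := by decide
    exact this _ _ h
  have hvne : M v ≠ 0 := by
    intro h
    rw [h, B_zero_left] at hsymm
    exact hv hsymm
  obtain ⟨⟨w, hw⟩, h1⟩ := finrank_le_one_iff.mp hr
  obtain ⟨a, ha⟩ := h1 ⟨M u, LinearMap.mem_range_self M u⟩
  obtain ⟨b, hb⟩ := h1 ⟨M v, LinearMap.mem_range_self M v⟩
  have ha' : a • w = M u := congrArg Subtype.val ha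
  have hb' : b • w = M v := congrArg Subtype.val hb
  have ha1 : a = 1 := by
    rcases z2 a with h | h
    · rw [h, zero_smul] at ha'; exact absurd ha'.symm hu
    · exact h
  have hb1 : b = 1 := by
    rcases z2 b with h | h
    · rw [h, zero_smul] at hb'; exact absurd hb'.symm hvne
    · exact h
  rw [ha1, one_smul] at ha'
  rw [hb1, one_smul] at hb'
  rw [← ha', hb'] at hv
  exact hv (hM v)

/-- The ranks of the powers of a nilpotent endomorphism drop strictly. -/
theorem rank_drop {N : End (ZMod 2) V} {m : ℕ} (hN : N ^ m = 0) (j : ℕ) :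
    finrank (ZMod 2) (LinearMap.range (N ^ (j + 1))) ≤ finrank (ZMod 2) (LinearMap.range (N ^ j)) - 1 := by
  have hle : LinearMap.range (N ^ (j + 1)) ≤ LinearMap.range (N ^ j) := by
    rintro _ ⟨v, rfl⟩
    exact ⟨N v, by rw [pow_succ]; rfl⟩
  rcases hle.lt_or_eq with h | h
  · have := Submodule.finrank_lt_finrank_of_lt h
    omega
  · have hall : ∀ i, LinearMap.range (N ^ (j + i)) = LinearMap.range (N ^ j) := by
      intro i
      induction i with
      | zero => rfl
      | succ i ih =>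
        rw [← h, ← add_assoc, pow_succ' N (j + i), pow_succ' N j, Module.End.mul_eq_comp,
          Module.End.mul_eq_comp, LinearMap.range_comp, LinearMap.range_comp, ih]
    have h0 : LinearMap.range (N ^ j) = ⊥ := by
      rw [← hall m, pow_add, hN, mul_zero, LinearMap.range_zero]
    rw [h, h0]
    simp

/-- The rank of `φⁿ - 1`. -/
theorem rank_le {φ : End (ZMod 2) V} {k n : ℕ} {f g h : (ZMod 2)[X]}
    (hch : φ.charpoly = (X - C 1) ^ k * f) (hf : f.eval 1 ≠ 0)
    (hg : (X - C 1) * g = X ^ n - 1) (hfg : g = f * h) (hk : 0 < k)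
    (hfix : 2 ≤ finrank (ZMod 2) (LinearMap.ker (φ - 1))) :
    finrank (ZMod 2) (LinearMap.range (φ ^ n - 1)) ≤ k - 2 ∧ (φ ^ n - 1) ^ k = 0 := by
  have hX : aeval φ (X - C 1 : (ZMod 2)[X]) = φ - 1 := by simp
  have hn : φ ^ n - 1 = (φ - 1) * aeval φ g := by
    rw [← hX, ← map_mul, hg]; simp
  have hz : (φ - 1) ^ k * aeval φ g = 0 := by
    rw [← hX, ← map_pow, ← map_mul, hfg, ← mul_assoc, ← hch, map_mul,
      LinearMap.aeval_self_charpoly, zero_mul]
  have hcomm : Commute (φ - 1) (aeval φ g) := by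
    rw [← hX]
    exact (Commute.all (X - C 1 : (ZMod 2)[X]) g).map (aeval φ)
  set U : Submodule (ZMod 2) V := LinearMap.ker ((φ - 1) ^ k) with hU
  have hUk : finrank (ZMod 2) U ≤ k := by
    have h0 : (X - C 1 : (ZMod 2)[X]) ^ k * f ≠ 0 := by
      rw [← hch]; exact (LinearMap.charpoly_monic φ).ne_zero
    have h1 : φ.charpoly.rootMultiplicity 1 = k := by
      rw [hch, rootMultiplicity_mul h0, rootMultiplicity_X_sub_C_pow,
        rootMultiplicity_eq_zero (fun h => hf h), add_zero]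
    rw [← h1, ← LinearMap.finrank_maxGenEigenspace_eq]
    apply Submodule.finrank_mono
    intro v hv
    rw [Module.End.mem_maxGenEigenspace]
    exact ⟨k, by rw [one_smul]; exact hv⟩
  have hker : LinearMap.ker (φ - 1) ≤ U := by
    intro v hv
    rw [hU, LinearMap.mem_ker]
    obtain ⟨j, rfl⟩ := Nat.exists_eq_succ_of_ne_zero hk.ne'
    rw [Nat.succ_eq_add_one, pow_succ, Module.End.mul_apply, LinearMap.mem_ker.mp hv, map_zero]
  have hrange : LinearMap.range (φ ^ n - 1) ≤ LinearMap.range ((φ - 1).domRestrict U) := by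
    rintro _ ⟨v, rfl⟩
    refine ⟨⟨aeval φ g v, ?_⟩, ?_⟩
    · rw [hU, LinearMap.mem_ker, ← Module.End.mul_apply, hz]; rfl
    · rw [hn]; rfl
  have h1 := LinearMap.finrank_range_add_finrank_ker ((φ - 1).domRestrict U)
  have h2 : finrank (ZMod 2) (LinearMap.ker (φ - 1)) ≤
      finrank (ZMod 2) (LinearMap.ker ((φ - 1).domRestrict U)) := by
    rw [LinearMap.ker_domRestrict]
    exact (Submodule.comapSubtypeEquivOfLe hker).finrank_eq.symm.le
  have h3 := Submodule.finrank_mono hrange
  refine ⟨by omega, ?_⟩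
  obtain ⟨j, rfl⟩ := Nat.exists_eq_succ_of_ne_zero hk.ne'
  rw [hn, hcomm.mul_pow, pow_succ' (aeval φ g), ← mul_assoc, hz, zero_mul]

theorem sq_sub_one (R : End (ZMod 2) V) : (R - 1) ^ 2 = R ^ 2 - 1 := by
  have : (R - 1) ^ 2 = R ^ 2 - 1 - (R + R) + (1 + 1) := by
    simp only [pow_two, sub_mul, mul_sub, mul_one, one_mul]
    abel
  rw [this, end_add_self, end_add_self, sub_zero, add_zero]

/-- `φⁿ` has order dividing `1, 2, 4` if the multiplicity of the root `1` is `2, 4, 6`. -/
theorem pow_eq_one {φ ψ : End (ZMod 2) V} {n : ℕ} {f g h : (ZMod 2)[X]} (hφ : Isom φ)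
    (e1 : φ * ψ = 1) (e2 : ψ * φ = 1) (hf : f.eval 1 ≠ 0)
    (hg : (X - C 1) * g = X ^ n - 1) (hfg : g = f * h)
    (hfix : 2 ≤ finrank (ZMod 2) (LinearMap.ker (φ - 1))) :
    (φ.charpoly = (X - C 1) ^ 2 * f → φ ^ n = 1) ∧
    (φ.charpoly = (X - C 1) ^ 4 * f → φ ^ (2 * n) = 1) ∧
    (φ.charpoly = (X - C 1) ^ 6 * f → φ ^ (4 * n) = 1) := by
  have hc : Commute φ ψ := by rw [commute_iff_eq, e1, e2]
  have i1 : φ ^ n * ψ ^ n = 1 := by rw [← hc.mul_pow, e1, one_pow]
  have i2 : ψ ^ n * φ ^ n = 1 := by rw [← hc.symm.mul_pow, e2, one_pow]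
  set R := φ ^ n with hR
  set N := R - 1 with hN
  have hRI : Isom R := hφ.pow n
  have hN2 : N ^ 2 = R ^ 2 - 1 := sq_sub_one R
  have hzero : ∀ M : End (ZMod 2) V, finrank (ZMod 2) (LinearMap.range M) = 0 → M = 0 := by
    intro M hM
    rw [Submodule.finrank_eq_zero, LinearMap.range_eq_bot] at hM
    exact hM
  refine ⟨fun hch => ?_, fun hch => ?_, fun hch => ?_⟩
  · obtain ⟨h1, -⟩ := rank_le hch hf hg hfg (by norm_num) hfix
    rw [← hR, ← hN] at h1
    exact sub_eq_zero.mp (hzero N (by omega))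
  · obtain ⟨h1, h2⟩ := rank_le hch hf hg hfg (by norm_num) hfix
    rw [← hR, ← hN] at h1 h2
    have r1 : finrank (ZMod 2) (LinearMap.range (N ^ 2)) ≤ finrank (ZMod 2) (LinearMap.range N) - 1 := by
      have := rank_drop h2 1
      have e : N ^ 1 = N := pow_one N
      rwa [e] at this
    have r2 : finrank (ZMod 2) (LinearMap.range (N ^ 3)) ≤
        finrank (ZMod 2) (LinearMap.range (N ^ 2)) - 1 := rank_drop h2 2
    have h3 : N ^ 3 = 0 := hzero _ (by omega)
    have h4 : N ^ 2 = 0 := eq_zero_of_rank (alt_of_cube hRI i1 i2 h3) (by omega)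
    rw [hN2, sub_eq_zero] at h4
    rw [mul_comm, pow_mul]
    exact h4
  · obtain ⟨h1, h2⟩ := rank_le hch hf hg hfg (by norm_num) hfix
    rw [← hR, ← hN] at h1 h2
    have r1 : finrank (ZMod 2) (LinearMap.range (N ^ 2)) ≤ finrank (ZMod 2) (LinearMap.range N) - 1 := by
      have := rank_drop h2 1
      have e : N ^ 1 = N := pow_one N
      rwa [e] at this
    have r2 : finrank (ZMod 2) (LinearMap.range (N ^ 3)) ≤
        finrank (ZMod 2) (LinearMap.range (N ^ 2)) - 1 := rank_drop h2 2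
    have r3 : finrank (ZMod 2) (LinearMap.range (N ^ 4)) ≤
        finrank (ZMod 2) (LinearMap.range (N ^ 3)) - 1 := rank_drop h2 3
    have r4 : finrank (ZMod 2) (LinearMap.range (N ^ 5)) ≤
        finrank (ZMod 2) (LinearMap.range (N ^ 4)) - 1 := rank_drop h2 4
    have h5 : N ^ 5 = 0 := hzero _ (by omega)
    have j1 : R ^ 2 * (ψ ^ n) ^ 2 = 1 := by
      rw [← (show Commute R (ψ ^ n) by rw [commute_iff_eq, i1, i2]).mul_pow, i1, one_pow]
    have j2 : (ψ ^ n) ^ 2 * R ^ 2 = 1 := by
      rw [← (show Commute (ψ ^ n) R by rw [commute_iff_eq, i1, i2]).mul_pow, i2, one_pow]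
    have h6 : (R ^ 2 - 1) ^ 3 = 0 := by
      rw [← hN2, ← pow_mul, show 2 * 3 = 5 + 1 by norm_num, pow_succ, h5, zero_mul]
    have h7 := alt_of_cube (hRI.pow 2) j1 j2 h6
    rw [← hN2, ← pow_mul, show 2 * 2 = 4 by norm_num] at h7
    have h4 : N ^ 4 = 0 := eq_zero_of_rank h7 (by omega)
    have h8 : N ^ 4 = R ^ 4 - 1 := by
      have e : N ^ 4 = (N ^ 2) ^ 2 := (pow_mul N 2 2)
      rw [e, hN2, sq_sub_one, ← pow_mul]
    rw [h8, sub_eq_zero] at h4
    rw [mul_comm, pow_mul]
    exact h4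

end Cfsg.Agent.H359.OEight
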