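import Mathlib

/-!
# Groups whose Sylow 3-subgroups have exponent 3
-/

set_option autoImplicit false

namespace Cfsg.Agent.H359

open Subgroup

section heis

variable {X : Type*} [Group X] {s t c : X}

theorem heis_comm (h : t * s = s * t * c) (cs : c * s = s * c) (ct : c * t = t * c) (i j : ℕ) :
    t ^ j * s ^ i = s ^ i * t ^ j * c ^ (i * j) := by
  have cs' : Commute c s := cs
  have ct' : Commute c t := ct
  have h1 : ∀ j : ℕ, t ^ j * s = s * t ^ j * c ^ j := by
    intro j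
    induction j with
    | zero => simp
    | succ j ih =>
      rw [pow_succ', mul_assoc, ih, ← mul_assoc, ← mul_assoc, h, pow_succ' c,
        mul_assoc (s * t) c, (ct'.pow_right j).eq]
      simp only [mul_assoc]
  induction i with
  | zero => simp
  | succ i ih =>
    rw [pow_succ, ← mul_assoc, ih, mul_assoc _ (c ^ (i * j)) s, (cs'.pow_left _).eq, ← mul_assoc,
      mul_assoc (s ^ i) (t ^ j) s, h1, Nat.succ_mul, Nat.add_comm (i * j) j, pow_add]
    simp only [mul_assoc]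

theorem heis_cube (ht : t ^ 3 = 1) (h : t * s = s * t * c) (ct : c * t = t * c) :
    c ^ 3 = 1 := by
  have ct' : Commute t c := ct.symm
  have h1 : s⁻¹ * t * s = t * c := by rw [mul_assoc, h]; group
  have h2 : (s⁻¹ * t * s) ^ 3 = 1 := by
    have : (s⁻¹ * t * s) ^ 3 = s⁻¹ * t ^ 3 * s := by
      simp only [pow_succ, pow_zero, one_mul]; group
    rw [this, ht]; group
  rw [h1, ct'.mul_pow, ht, one_mul] at h2
  exact h2

theorem exists_exp_three (hs : s ^ 3 = 1) (ht : t ^ 3 = 1) (h : t * s = s * t * c)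
    (cs : c * s = s * c) (ct : c * t = t * c) :
    ∃ H : Subgroup X, s ∈ H ∧ t ∈ H ∧ ∀ g ∈ H, g ^ 3 = 1 := by
  have hc := heis_cube ht h ct
  have cs' : ∀ k : ℕ, ∀ i : ℕ, Commute (c ^ k) (s ^ i) := fun k i =>
    (show Commute c s from cs).pow_pow k i
  have ct' : ∀ k : ℕ, ∀ i : ℕ, Commute (c ^ k) (t ^ i) := fun k i =>
    (show Commute c t from ct).pow_pow k i
  have hm : ∀ i j k i' j' k' : ℕ, s ^ i * t ^ j * c ^ k * (s ^ i' * t ^ j' * c ^ k') =
      s ^ (i + i') * t ^ (j + j') * c ^ (k + k' + i' * j) := by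
    intro i j k i' j' k'
    calc s ^ i * t ^ j * c ^ k * (s ^ i' * t ^ j' * c ^ k')
        = s ^ i * t ^ j * (c ^ k * s ^ i') * t ^ j' * c ^ k' := by simp only [mul_assoc]
      _ = s ^ i * (t ^ j * s ^ i') * c ^ k * t ^ j' * c ^ k' := by
          rw [(cs' k i').eq]; simp only [mul_assoc]
      _ = s ^ i * s ^ i' * t ^ j * c ^ (i' * j) * c ^ k * t ^ j' * c ^ k' := by
          rw [heis_comm h cs ct]; simp only [mul_assoc]
      _ = s ^ i * s ^ i' * t ^ j * (c ^ (i' * j + k) * t ^ j') * c ^ k' := by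
          rw [pow_add]; simp only [mul_assoc]
      _ = s ^ i * s ^ i' * (t ^ j * t ^ j') * (c ^ (i' * j + k) * c ^ k') := by
          rw [(ct' _ _).eq]; simp only [mul_assoc]
      _ = _ := by
          rw [← pow_add, ← pow_add, ← pow_add]
          congr 2
          ring
  have hcube : ∀ i j k : ℕ, (s ^ i * t ^ j * c ^ k) ^ 3 = 1 := by
    intro i j k
    have e1 : i + i + i = 3 * i := by ring
    have e2 : j + j + j = 3 * j := by ring
    have e3 : k + k + i * j + k + i * (j + j) = 3 * (k + i * j) := by ring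
    rw [pow_succ, pow_two, hm, hm, e1, e2, e3, pow_mul, pow_mul, pow_mul, hs, ht, hc]
    simp
  refine ⟨{ carrier := {g | ∃ i j k : ℕ, g = s ^ i * t ^ j * c ^ k}
            mul_mem' := ?_, one_mem' := ⟨0, 0, 0, by simp⟩, inv_mem' := ?_ },
    ⟨1, 0, 0, by simp⟩, ⟨0, 1, 0, by simp⟩, ?_⟩
  · rintro _ _ ⟨i, j, k, rfl⟩ ⟨i', j', k', rfl⟩
    exact ⟨_, _, _, hm i j k i' j' k'⟩
  · rintro _ ⟨i, j, k, rfl⟩
    have h1 : (s ^ i * t ^ j * c ^ k)⁻¹ = (s ^ i * t ^ j * c ^ k) * (s ^ i * t ^ j * c ^ k) := by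
      rw [inv_eq_iff_mul_eq_one, ← pow_two, ← pow_succ']
      exact hcube i j k
    exact ⟨_, _, _, h1.trans (hm i j k i j k)⟩
  · rintro _ ⟨i, j, k, rfl⟩
    exact hcube i j k

end heis

theorem isPGroup_of_exp {X : Type*} [Group X] {H : Subgroup X} (h : ∀ g ∈ H, g ^ 3 = 1) :
    IsPGroup 3 H := fun g => ⟨1, Subtype.ext (by simpa using h g g.2)⟩

theorem no_nine_aux {X : Type*} [Group X] [Finite X] {H : Subgroup X} (hH : ∀ g ∈ H, g ^ 3 = 1)
    {n : ℕ} (h1 : 3 ^ n ∣ Nat.card H) (h2 : ¬ 3 ^ (n + 1) ∣ Nat.card X) (g : X) :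
    orderOf g ≠ 9 := by
  have : Fact (Nat.Prime 3) := ⟨by norm_num⟩
  intro hg
  obtain ⟨P, hP⟩ := (isPGroup_of_exp hH).exists_le_sylow
  have hPH : (P : Subgroup X) = H := by
    obtain ⟨m, hm⟩ := IsPGroup.iff_card.mp P.isPGroup'
    have hm' : m ≤ n := by
      by_contra hlt
      exact h2 ((pow_dvd_pow 3 (by omega)).trans (hm ▸ Subgroup.card_subgroup_dvd_card _))
    have h3 : Nat.card (P : Subgroup X) ≤ Nat.card H := by
      rw [hm]
      exact (Nat.pow_le_pow_right (by norm_num) hm').trans (Nat.le_of_dvd Nat.card_pos h1)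
    exact (Subgroup.eq_of_le_of_card_ge hP h3).symm
  have hz : IsPGroup 3 (zpowers g) := IsPGroup.of_card (n := 2) (by rw [Nat.card_zpowers, hg]; norm_num)
  obtain ⟨Q, hQ⟩ := hz.exists_le_sylow
  obtain ⟨y, hy⟩ := MulAction.exists_smul_eq X Q P
  have h4 : y * g * y⁻¹ ∈ (P : Subgroup X) := by
    rw [← hy]
    rw [Sylow.coe_subgroup_smul]
    exact Subgroup.smul_mem_pointwise_smul _ (MulAut.conj y) _ (hQ (mem_zpowers g))
  rw [hPH] at h4
  have h5 := hH _ h4
  rw [conj_pow, mul_inv_eq_one, mul_eq_left] at h5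
  have h6 := orderOf_dvd_of_pow_eq_one h5
  rw [hg] at h6
  norm_num at h6

/-- Sylow 3-subgroup elementary abelian of order 9. -/
theorem no_nine_of_comm {X : Type*} [Group X] [Finite X] {s t : X} (hs : s ^ 3 = 1)
    (ht : t ^ 3 = 1) (h : t * s = s * t) (s1 : s ≠ 1) (t1 : t ≠ 1) (st : t ≠ s) (st' : t * s ≠ 1)
    (h27 : ¬ 27 ∣ Nat.card X) (g : X) : orderOf g ≠ 9 := by
  classical
  have : Fact (Nat.Prime 3) := ⟨by norm_num⟩
  obtain ⟨H, h1, h2, h3⟩ := exists_exp_three (c := 1) hs ht (by rw [h, mul_one]) (by simp) (by simp)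
  refine no_nine_aux h3 (n := 2) ?_ (by simpa using h27) g
  obtain ⟨m, hm⟩ := IsPGroup.iff_card.mp (isPGroup_of_exp h3)
  rw [hm]
  apply pow_dvd_pow
  by_contra hlt
  have hle : Nat.card H ≤ 3 := by
    rw [hm]
    calc 3 ^ m ≤ 3 ^ 1 := Nat.pow_le_pow_right (by norm_num) (by omega)
      _ = 3 := by norm_num
  have hz : zpowers s ≤ H := by rwa [zpowers_le]
  have hos : orderOf s = 3 := orderOf_eq_prime hs s1
  have heq : zpowers s = H := Subgroup.eq_of_le_of_card_ge hz (by rwa [Nat.card_zpowers, hos])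
  rw [← heq] at h2
  have hfin : t ∈ (zpowers s : Subgroup X) := h2
  rw [(isOfFinOrder_of_finite s).mem_zpowers_iff_mem_range_orderOf, hos] at hfin
  simp only [Finset.mem_image, Finset.mem_range] at hfin
  obtain ⟨k, hk, rfl⟩ := hfin
  interval_cases k
  · exact t1 (pow_zero s)
  · exact st (pow_one s)
  · exact st' (by rw [← pow_succ]; exact hs)

/-- Sylow 3-subgroup extraspecial of order 27 and exponent 3. -/
theorem no_nine_of_heis {X : Type*} [Group X] [Finite X] {s t c : X} (hs : s ^ 3 = 1)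
    (ht : t ^ 3 = 1) (h : t * s = s * t * c) (cs : c * s = s * c) (ct : c * t = t * c) (c1 : c ≠ 1)
    (h81 : ¬ 81 ∣ Nat.card X) (g : X) : orderOf g ≠ 9 := by
  have : Fact (Nat.Prime 3) := ⟨by norm_num⟩
  obtain ⟨H, h1, h2, h3⟩ := exists_exp_three hs ht h cs ct
  refine no_nine_aux h3 (n := 3) ?_ (by simpa using h81) g
  obtain ⟨m, hm⟩ := IsPGroup.iff_card.mp (isPGroup_of_exp h3)
  rw [hm]
  apply pow_dvd_pow
  by_contra hlt
  have hm3 : m = 0 ∨ m = 1 ∨ m = 2 := by omega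
  have hcomm : ∀ a b : H, a * b = b * a := by
    rcases hm3 with rfl | rfl | rfl
    · intro a b
      have : Subsingleton H := (Nat.card_eq_one_iff_unique.mp (by simpa using hm)).1
      exact Subsingleton.elim _ _
    · have : IsCyclic H := isCyclic_of_prime_card (p := 3) (by simpa using hm)
      exact fun a b => (IsCyclic.commGroup (α := H)).mul_comm a b
    · have := IsPGroup.isMulCommutative_of_card_eq_prime_sq hm
      exact fun a b => mul_comm' a b
  have h4 := hcomm ⟨t, h2⟩ ⟨s, h1⟩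
  have h5 : t * s = s * t := congrArg Subtype.val h4
  rw [h] at h5
  exact c1 (mul_eq_left.mp h5)

end Cfsg.Agent.H359
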