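import Mathlib
import Cfsg.Agent.H359.Red

/-!
# The index of the socle
-/

set_option autoImplicit false
set_option linter.style.haveILetI false

namespace Cfsg.Agent.H359

open Subgroup

universe u

variable {T : Type u} [Group T] [Finite T]

theorem idx (hs : Sp T) (S : Subgroup T) [S.Normal] (h7 : 7 ∣ Nat.card S)
    (h49 : ¬ 49 ∣ Nat.card S) :
    ∃ a k, k ∣ 6 ∧ k % 7 = Nat.card S / 7 % 7 ∧ S.index * k ∣ 7 ^ a * 6 := by
  haveI : Fact (Nat.Prime 7) := ⟨by norm_num⟩
  let P : Sylow 7 S := default
  have hP7 : Nat.card (P : Subgroup S) = 7 := by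
    have h1 : 7 ^ 1 ∣ Nat.card (P : Subgroup S) := P.pow_dvd_card_of_pow_dvd_card (by simpa using h7)
    obtain ⟨n, hn⟩ := IsPGroup.iff_card.mp P.isPGroup'
    have h2 : Nat.card (P : Subgroup S) ∣ Nat.card S := card_subgroup_dvd_card _
    rw [hn] at h1 h2
    rw [hn]
    have h3 : n < 2 := by
      by_contra h
      push Not at h
      exact h49 ((pow_dvd_pow 7 h).trans h2)
    interval_cases n
    · norm_num at h1
    · norm_num
  set P' : Subgroup T := (P : Subgroup S).map S.subtype with hP'
  have hP'7 : Nat.card P' = 7 := by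
    rw [← hP7]
    exact Nat.card_congr ((P : Subgroup S).equivMapOfInjective _ S.subtype_injective).symm.toEquiv
  haveI : IsCyclic P' := isCyclic_of_prime_card hP'7
  obtain ⟨x, hx, hxo⟩ : ∃ x ∈ P', orderOf x = 7 := exists_orderOf_seven (by rw [hP'7])
  set N : Subgroup T := normalizer (P' : Set T) with hN
  -- the order of the normalizer
  obtain ⟨a, ha⟩ : ∃ a, Nat.card (centralizer (P' : Set T)) = 7 ^ a := by
    apply IsPGroup.iff_card.mp
    refine IsPGroup.to_le (hs.isPGroup_centralizer hxo) ?_
    exact centralizer_le (by simpa using hx)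
  have hNdvd : Nat.card N ∣ 7 ^ a * 6 := by
    have h1 := P'.normalizerMonoidHom.ker.card_mul_index
    rw [index_ker] at h1
    rw [← h1]
    apply Nat.mul_dvd_mul
    · rw [normalizerMonoidHom_ker]
      have h2 : Nat.card ((centralizer (P' : Set T)).subgroupOf N) ∣
          Nat.card (centralizer (P' : Set T)) := by
        rw [← Nat.card_congr (((centralizer (P' : Set T)).subgroupOf N).equivMapOfInjective _
          N.subtype_injective).symm.toEquiv]
        apply card_dvd_of_le
        rw [subgroupOf_map_subtype]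
        exact inf_le_left
      rwa [ha] at h2
    · have h2 : Nat.card P'.normalizerMonoidHom.range ∣ Nat.card (MulAut P') :=
        card_subgroup_dvd_card _
      rw [IsCyclic.card_mulAut, hP'7] at h2
      exact h2
  -- index of `S`
  have hsup : S.index = S.relIndex N := by
    have h1 := Sylow.normalizer_sup_eq_top P
    rw [← relIndex_top_right, ← h1, relIndex_sup_right]
  have hNS : S.index * Nat.card (S ⊓ N : Subgroup T) = Nat.card N := by
    rw [hsup, ← inf_relIndex_right, mul_comm]
    have h2 := (((S ⊓ N).subgroupOf N)).card_mul_index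
    rw [← relIndex] at h2
    rw [← h2]
    congr 1
    exact Nat.card_congr (subgroupOfEquivOfLe inf_le_right).symm.toEquiv
  have hinf : Nat.card (S ⊓ N : Subgroup T) = Nat.card (normalizer (P : Set S)) := by
    have : (normalizer (P : Set S)).map S.subtype = S ⊓ N := by
      ext y
      constructor
      · rintro ⟨y, hy, rfl⟩
        refine ⟨y.2, ?_⟩
        rw [hN]
        apply mem_normalizer_iff.mpr
        intro h
        constructor
        · rintro ⟨q, hq, rfl⟩
          exact ⟨y * q * y⁻¹, (mem_normalizer_iff.mp hy q).mp hq, rfl⟩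
        · rintro ⟨q, hq, hqe⟩
          refine ⟨y⁻¹ * q * y, ?_, ?_⟩
          · apply (mem_normalizer_iff.mp hy _).mpr
            have e : y * (y⁻¹ * q * y) * y⁻¹ = q := by group
            rw [e]
            exact hq
          · change (y : T)⁻¹ * (q : T) * y = h
            have : (q : T) = y * h * (y : T)⁻¹ := hqe
            rw [this]
            group
      · rintro ⟨hyS, hyN⟩
        refine ⟨⟨y, hyS⟩, ?_, rfl⟩
        apply mem_normalizer_iff.mpr
        intro q
        have h1 := mem_normalizer_iff.mp hyN (q : T)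
        constructor
        · intro hq
          obtain ⟨r, hr, hre⟩ := h1.mp ⟨q, hq, rfl⟩
          have : (⟨y, hyS⟩ * q * ⟨y, hyS⟩⁻¹ : S) = r := Subtype.ext hre.symm
          rw [this]
          exact hr
        · intro hq
          obtain ⟨r, hr, hre⟩ := h1.mpr ⟨_, hq, rfl⟩
          have : q = r := Subtype.ext hre.symm
          rw [this]
          exact hr
    rw [← this]
    exact Nat.card_congr ((normalizer (P : Set S)).equivMapOfInjective _
      S.subtype_injective).symm.toEquiv
  -- the normalizer in `S`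
  have h1 : Nat.card (Sylow 7 S) ≡ 1 [MOD 7] := card_sylow_modEq_one 7 S
  have h2 : Nat.card (normalizer (P : Set S)) * Nat.card (Sylow 7 S) = Nat.card S := by
    rw [P.card_eq_index_normalizer]
    exact card_mul_index _
  have h0 : Nat.card (P : Subgroup S) ∣ Nat.card (normalizer (P : Set S)) :=
    card_dvd_of_le le_normalizer
  rw [hP7] at h0
  obtain ⟨k, hk⟩ := h0
  have h7k : ¬ 7 ∣ k := by
    intro h
    apply h49
    rw [← h2, hk]
    exact Dvd.dvd.mul_right (Nat.mul_dvd_mul_left 7 h) _
  have hkN : S.index * (7 * k) ∣ 7 ^ a * 6 := by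
    rw [← hk, ← hinf, hNS]
    exact hNdvd
  refine ⟨a, k, ?_, ?_, ?_⟩
  · have h3 : k ∣ 7 ^ a * 6 := (Dvd.intro_left _ rfl : k ∣ S.index * 7 * k).trans
      (by rw [mul_assoc]; exact hkN)
    refine Nat.Coprime.dvd_of_dvd_mul_left ?_ h3
    rw [Nat.coprime_comm]
    exact Nat.Coprime.pow_left a ((Nat.Prime.coprime_iff_not_dvd (by norm_num)).mpr h7k)
  · rw [← h2, hk, mul_assoc, Nat.mul_div_cancel_left _ (by norm_num), Nat.mul_mod, h1]
    simp
  · refine Dvd.dvd.trans ?_ hkN
    exact Nat.mul_dvd_mul_left _ (Dvd.intro_left 7 rfl)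

omit [Finite T] in
/-- An element of `T` of order prime to `|T : S|` lies in `S`. -/
theorem mem_of_coprime (S : Subgroup T) [S.Normal] (g : T)
    (h : (orderOf g).Coprime S.index) : g ∈ S := by
  rw [← QuotientGroup.eq_one_iff, ← orderOf_eq_one_iff]
  have h1 : orderOf (g : T ⧸ S) ∣ orderOf g := orderOf_map_dvd (QuotientGroup.mk' S) g
  have h2 : orderOf (g : T ⧸ S) ∣ S.index := by
    rw [Subgroup.index]
    exact orderOf_dvd_natCard _
  exact Nat.dvd_one.mp (h ▸ Nat.dvd_gcd h1 h2)

end Cfsg.Agent.H359
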