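import Mathlib
import Cfsg.Agent.H359.BadA
import Cfsg.Agent.H359.NoNine
import Cfsg.Agent.J2.HundredGens
import Cfsg.Agent.J2Sylow.SporSylow

/-!
# The Hall–Janko group: no modules in characteristic 3, exponent of the Sylow 3-subgroups
-/

set_option autoImplicit false

namespace Cfsg.Agent.H359.JTwo

open Cfsg.Agent.J2.HundredGens Cfsg.Agent.SporadicA.J2Hundred

universe u v

theorem gw_eq {L M : List ℕ} (h : chk L M = true) : gw L = gw M := Subtype.ext (pw_eq h)

theorem gw_mul (L M : List ℕ) : gw L * gw M = gw (L ++ M) := Subtype.ext (pw_mul L M)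

theorem gw_nil : gw [] = 1 := Subtype.ext pw_nil

theorem gw_ne {L M : List ℕ} (h : chk L M = false) : gw L ≠ gw M := by
  intro he
  have h1 : pw L = pw M := congrArg Subtype.val he
  have h2 : chk L M = true := by
    unfold chk
    rw [Cfsg.Agent.SporadicA.PermTab.allB_iff]
    intro i hi
    have h3 := congrArg (fun p : Equiv.Perm (Fin 100) => ((p ⟨i, hi⟩ : Fin 100) : ℕ)) h1
    simp only [pw_val] at h3
    rw [h3]
    exact Nat.beq_refl _
  rw [h] at h2
  exact Bool.false_ne_true h2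

theorem gw_ne_one {L : List ℕ} (h : chk L [] = false) : gw L ≠ 1 := by
  rw [← gw_nil]
  exact gw_ne h

/-- `b` -/
def wB : List ℕ := wY ++ wZ ++ wY.reverse
/-- `y` -/
def wF : List ℕ := wX ++ wV ++ wX.reverse

theorem bad_hundred {r : ℕ} (hr : r = 3 ∨ r = 5) : Bad.{v} r G := by
  refine bad_of_m1 hr (gw wX) (gw wZ) (gw wB) (gw wV) (gw wF) ?_ ?_ ?_ ?_ ?_ ?_ ?_ ?_ ?_ ?_ ?_ ?_ ?_
    ?_ ?_ ?_
  · rw [gw_mul, gw_mul]; exact gw_eq (by decide +kernel)
  · rw [gw_mul, gw_mul]; exact gw_eq (by decide +kernel)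
  · rw [gw_mul, gw_mul]; exact gw_eq (by decide +kernel)
  · rw [pow_succ, pow_two, gw_mul, gw_mul, ← gw_nil]; exact gw_eq (by decide +kernel)
  · rw [pow_two, gw_mul, ← gw_nil]; exact gw_eq (by decide +kernel)
  · rw [pow_two, gw_mul, ← gw_nil]; exact gw_eq (by decide +kernel)
  · exact gw_ne_one (by decide +kernel)
  · exact gw_ne_one (by decide +kernel)
  · exact gw_ne_one (by decide +kernel)
  · rw [gw_mul]; exact gw_ne_one (by decide +kernel)
  · rw [gw_mul, ← gw_nil]; exact gw_eq (by decide +kernel)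
  · rw [gw_mul, ← gw_nil]; exact gw_eq (by decide +kernel)
  · rw [gw_mul, gw_mul]; exact gw_eq (by decide +kernel)
  · rw [gw_mul, gw_mul]; exact gw_eq (by decide +kernel)
  · rw [gw_mul, gw_mul, gw_mul]; exact gw_eq (by decide +kernel)
  · exact gw_ne_one (by decide +kernel)

def wS : List ℕ := [1, 0, 1, 2, 0, 1, 0]
def wT : List ℕ := [3, 2, 3, 1]
def wC : List ℕ := [3, 2, 3, 1, 2, 3, 2, 1, 0, 1, 2, 3, 0, 1, 2, 1, 0, 1, 0]

theorem no_nine_hundred (g : G) : orderOf g ≠ 9 := by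
  refine no_nine_of_heis (s := gw wS) (t := gw wT) (c := gw wC) ?_ ?_ ?_ ?_ ?_ ?_ ?_ g
  · rw [pow_succ, pow_two, gw_mul, gw_mul, ← gw_nil]; exact gw_eq (by decide +kernel)
  · rw [pow_succ, pow_two, gw_mul, gw_mul, ← gw_nil]; exact gw_eq (by decide +kernel)
  · rw [gw_mul, gw_mul, gw_mul]; exact gw_eq (by decide +kernel)
  · rw [gw_mul, gw_mul]; exact gw_eq (by decide +kernel)
  · rw [gw_mul, gw_mul]; exact gw_eq (by decide +kernel)
  · exact gw_ne_one (by decide +kernel)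
  · rw [card_G]; norm_num

theorem bad_J2 {r : ℕ} (hr : r = 3 ∨ r = 5) : Bad.{v} r Cfsg.Spor.J2 := by
  obtain ⟨e⟩ := J2_iso Cfsg.Agent.J2Sylow.SporSylow.card_J2
  exact (bad_hundred hr).mono e.symm.toMonoidHom e.symm.injective

theorem no_nine_J2 (g : Cfsg.Spor.J2) : orderOf g ≠ 9 := by
  obtain ⟨e⟩ := J2_iso Cfsg.Agent.J2Sylow.SporSylow.card_J2
  rw [← e.orderOf_eq]
  exact no_nine_hundred _

end Cfsg.Agent.H359.JTwo
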