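import Mathlib
import Cfsg.Agent.H359.Two2
import Cfsg.Agent.H359.BadL34
import Cfsg.Agent.H359.BadU5
import Cfsg.Agent.H359.NoNine
import Cfsg.Agent.H436.Names

/-!
# Orders and spectra of some simple groups: alternating groups, `L₃(4)`, `U₃(5)`
-/

set_option autoImplicit false

namespace Cfsg.Agent.H359

open Cfsg Equiv Cfsg.Agent.OrdDiv

theorem card_alt (n : ℕ) (hn : 2 ≤ n) : 2 * Nat.card (alternatingGroup (Fin n)) = n.factorial := by
  have : Nontrivial (Fin n) := Fin.nontrivial_iff_two_le.mpr hn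
  rw [two_mul_nat_card_alternatingGroup, Nat.card_perm, Nat.card_fin]

theorem card_alt7 : Nat.card (alternatingGroup (Fin 7)) = 2520 := by
  have h := card_alt 7 (by norm_num)
  rw [show Nat.factorial 7 = 2 * 2520 by decide] at h
  omega

theorem card_alt8 : Nat.card (alternatingGroup (Fin 8)) = 20160 := by
  have h := card_alt 8 (by norm_num)
  rw [show Nat.factorial 8 = 2 * 20160 by decide] at h
  omega

theorem card_alt9 : Nat.card (alternatingGroup (Fin 9)) = 181440 := by
  have h := card_alt 9 (by norm_num)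
  rw [show Nat.factorial 9 = 2 * 181440 by decide] at h
  omega

theorem no_nine_alt7 (g : alternatingGroup (Fin 7)) : orderOf g ≠ 9 := by
  refine no_nine_of_comm (s := am [(0, 1), (1, 2)] (by decide) (by decide))
    (t := am [(3, 4), (4, 5)] (by decide) (by decide)) ?_ ?_ ?_ ?_ ?_ ?_ ?_ ?_ g
  iterate 7 decide
  rw [card_alt7]; norm_num

theorem no_nine_alt8 (g : alternatingGroup (Fin 8)) : orderOf g ≠ 9 := by
  refine no_nine_of_comm (s := am [(0, 1), (1, 2)] (by decide) (by decide))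
    (t := am [(3, 4), (4, 5)] (by decide) (by decide)) ?_ ?_ ?_ ?_ ?_ ?_ ?_ ?_ g
  iterate 7 decide
  rw [card_alt8]; norm_num

theorem no_eight_alt9 (g : alternatingGroup (Fin 9)) : orderOf g ≠ 8 := by
  intro hg
  have h1 : orderOf (g : Perm (Fin 9)) = 8 := by rw [Subgroup.orderOf_coe, hg]
  have h2 := Perm.lcm_cycleType (g : Perm (Fin 9))
  rw [h1] at h2
  have h3 : ∃ a ∈ (g : Perm (Fin 9)).cycleType, 8 ∣ a := by
    by_contra hno
    push Not at hno
    have h4 : (g : Perm (Fin 9)).cycleType.lcm ∣ 4 * 105 * 9 := by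
      rw [Multiset.lcm_dvd]
      intro a ha
      have h5 : a ∣ 8 := by rw [← h2]; exact Multiset.dvd_lcm ha
      have h6 := hno a ha
      have h7 : a ≤ 8 := Nat.le_of_dvd (by norm_num) h5
      interval_cases a <;> revert h5 h6 <;> decide
    rw [h2] at h4
    revert h4
    decide
  obtain ⟨a, ha, h8⟩ := h3
  have hs := Perm.sum_cycleType_le (g : Perm (Fin 9))
  rw [Fintype.card_fin] at hs
  obtain ⟨m, hm⟩ := Multiset.exists_cons_of_mem ha
  rw [hm, Multiset.sum_cons] at hs
  have ha9 : a ≤ 9 := by omega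
  have ha0 : 2 ≤ a := Perm.two_le_of_mem_cycleType ha
  have ha8 : a = 8 := by
    obtain ⟨k, rfl⟩ := h8
    omega
  subst ha8
  have hm0 : m = 0 := by
    by_contra hne
    obtain ⟨b, hb⟩ := Multiset.exists_mem_of_ne_zero hne
    have hb2 : 2 ≤ b := Perm.two_le_of_mem_cycleType (σ := (g : Perm (Fin 9))) (by
      rw [hm]; exact Multiset.mem_cons_of_mem hb)
    have hb1 := Multiset.le_sum_of_mem hb
    omega
  have hsign := Perm.sign_of_cycleType (g : Perm (Fin 9))
  rw [hm, hm0] at hsign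
  have h10 : Perm.sign (g : Perm (Fin 9)) = 1 := Perm.mem_alternatingGroup.mp g.2
  rw [h10] at hsign
  revert hsign
  decide

/-- an element of order 21 of `A₁₀` -/
theorem not_sp_alt10 : ¬ Sp (alternatingGroup (Fin 10)) := by
  intro h
  have h1 := h (am [(0, 1), (1, 2), (2, 3), (3, 4), (4, 5), (5, 6), (7, 8), (8, 9)] (by decide)
    (by decide))
  set x : alternatingGroup (Fin 10) := am [(0, 1), (1, 2), (2, 3), (3, 4), (4, 5), (5, 6), (7, 8),
    (8, 9)] (by decide) (by decide) with hx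
  have e1 : x ^ 3 ≠ 1 := by decide +kernel
  have e2 : x ^ 7 ≠ 1 := by decide +kernel
  have e3 : x ^ 21 = 1 := by decide +kernel
  have h2 := orderOf_dvd_of_pow_eq_one e3
  have h3 : ¬ orderOf x ∣ 3 := fun h => e1 (orderOf_dvd_iff_pow_eq_one.mp h)
  have h4 : ¬ orderOf x ∣ 7 := fun h => e2 (orderOf_dvd_iff_pow_eq_one.mp h)
  have h5 : orderOf x ≤ 21 := Nat.le_of_dvd (by norm_num) h2
  generalize orderOf x = n at *
  revert h1 h2 h3 h4
  have key : ∀ n ≤ 21, n ∈ Om → n ∣ 21 → ¬ n ∣ 3 → ¬ n ∣ 7 → False := by decide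
  exact key n h5

theorem no_nine_quot {H : Type*} [Group H] [Finite (H ⧸ Subgroup.center H)] {s t m : H}
    (hm : m ∈ Subgroup.center H) (hs : s ^ 3 = 1) (ht : t ^ 3 = 1) (h : t * s = m * (s * t))
    (hne : t * s ≠ s * t) (h27 : ¬ 27 ∣ Nat.card (H ⧸ Subgroup.center H))
    (g : H ⧸ Subgroup.center H) : orderOf g ≠ 9 := by
  have hm1 : (m : H ⧸ Subgroup.center H) = 1 := mk_eq_one hm
  refine no_nine_of_comm (s := (s : H ⧸ Subgroup.center H)) (t := (t : H ⧸ Subgroup.center H))
    ?_ ?_ ?_ ?_ ?_ ?_ ?_ h27 g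
  · rw [← QuotientGroup.mk_pow, hs, QuotientGroup.mk_one]
  · rw [← QuotientGroup.mk_pow, ht, QuotientGroup.mk_one]
  · rw [← QuotientGroup.mk_mul, h, QuotientGroup.mk_mul, hm1, one_mul, QuotientGroup.mk_mul]
  · exact mk_ne_one hne
  · exact mk_ne_one hne.symm
  · intro h1
    have h2 : s⁻¹ * t ∈ Subgroup.center H := QuotientGroup.eq.mp h1.symm
    have h3 := Subgroup.mem_center_iff.mp h2 s
    apply hne
    have h4 : t = s * (s⁻¹ * t) := by group
    calc t * s = s * ((s⁻¹ * t) * s) := by group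
      _ = s * (s * (s⁻¹ * t)) := by rw [h3]
      _ = s * t := by group
  · rw [← QuotientGroup.mk_mul]
    intro h1
    have h2 : t * s ∈ Subgroup.center H := (QuotientGroup.eq_one_iff _).mp h1
    have h3 := Subgroup.mem_center_iff.mp h2 s
    apply hne
    calc t * s = t * s * s * s⁻¹ := by group
      _ = s * (t * s) * s⁻¹ := by rw [h3]
      _ = s * t := by group

section lthree

open Matrix Cfsg.Agent.Lib.FieldFour

/-- `diag(1, w, w²)` -/
def l34s : SpecialLinearGroup (Fin 3) F4 := ⟨!![1, 0, 0; 0, F4.w, 0; 0, 0, F4.v], by decide⟩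
/-- a 3-cycle -/
def l34t : SpecialLinearGroup (Fin 3) F4 := ⟨!![0, 0, 1; 1, 0, 0; 0, 1, 0], by decide⟩

theorem card_psl34 {F : Type} [Field F] [Fintype F] (hF : Fintype.card F = 4) :
    Nat.card (Matrix.ProjectiveSpecialLinearGroup (Fin 3) F) = 20160 := by
  have h := Cfsg.Agent.H436.psl_eq (F := F) (n := 3) (by norm_num)
  rw [hF, show fPSL.den 3 4 = 9 by decide, show fPSL.num 3 4 = 9 * 20160 by decide] at h
  omega

theorem no_nine_psl34 {F : Type} [Field F] [Fintype F] (hF : Fintype.card F = 4)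
    (g : Matrix.ProjectiveSpecialLinearGroup (Fin 3) F) : orderOf g ≠ 9 := by
  let e : F4 ≃+* F := (equivOfCard hF).symm
  have hinj : Function.Injective (SpecialLinearGroup.map (n := Fin 3) (e : F4 →+* F)) := by
    intro A B h
    ext i j
    have h2 := congrArg (fun M : SpecialLinearGroup (Fin 3) F => M.1 i j) h
    exact e.injective h2
  have hz : SpecialLinearGroup.map (n := Fin 3) (e : F4 →+* F) LThreeFour.zc ∈
      Subgroup.center (SpecialLinearGroup (Fin 3) F) := by
    rw [Subgroup.mem_center_iff]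
    intro g
    apply Subtype.ext
    change g.1 * (LThreeFour.zc : Matrix (Fin 3) (Fin 3) F4).map e =
      (LThreeFour.zc : Matrix (Fin 3) (Fin 3) F4).map e * g.1
    have hs : (LThreeFour.zc : Matrix (Fin 3) (Fin 3) F4).map e =
        e F4.w • (1 : Matrix (Fin 3) (Fin 3) F) := by
      ext i j
      fin_cases i <;> fin_cases j <;> simp [LThreeFour.zc]
    rw [hs, Matrix.mul_smul, Matrix.smul_mul, mul_one, one_mul]
  have hfin : Finite (SpecialLinearGroup (Fin 3) F) := inferInstance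
  refine no_nine_quot (H := SpecialLinearGroup (Fin 3) F)
    (s := SpecialLinearGroup.map (e : F4 →+* F) l34s)
    (t := SpecialLinearGroup.map (e : F4 →+* F) l34t)
    (m := SpecialLinearGroup.map (e : F4 →+* F) LThreeFour.zc ^ 2) ?_ ?_ ?_ ?_ ?_ ?_ g
  · exact Subgroup.pow_mem _ hz 2
  · rw [← map_pow, show l34s ^ 3 = 1 by decide, map_one]
  · rw [← map_pow, show l34t ^ 3 = 1 by decide, map_one]
  · rw [← map_mul, ← map_pow, ← map_mul, ← map_mul]
    congr 1
    decide
  · rw [← map_mul, ← map_mul]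
    intro h
    exact absurd (hinj h) (by decide)
  · have := card_psl34 hF
    rw [show Nat.card (SpecialLinearGroup (Fin 3) F ⧸ Subgroup.center
      (SpecialLinearGroup (Fin 3) F)) = 20160 from this]
    norm_num

end lthree

section uthree

open Matrix

theorem card_psu35 {F : Type} [Field F] [Fintype F] (hF : Fintype.card F = 25) :
    Nat.card (PSU 3 F 5) = 126000 := by
  have h := Cfsg.Agent.H436.psu_eq (F := F) (n := 3) (q := 5) (by rw [hF]; norm_num) (by norm_num)
  rw [show fPSU.den 3 5 = 18 by decide, show fPSU.num 3 5 = 18 * 126000 by decide] at h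
  omega

theorem card_psu33 {F : Type} [Field F] [Fintype F] (hF : Fintype.card F = 9) :
    Nat.card (PSU 3 F 3) = 6048 := by
  have h := Cfsg.Agent.H436.psu_eq (F := F) (n := 3) (q := 3) (by rw [hF]; norm_num) (by norm_num)
  rw [show fPSU.den 3 3 = 4 by decide, show fPSU.num 3 3 = 4 * 6048 by decide] at h
  omega

theorem card_psu43 {F : Type} [Field F] [Fintype F] (hF : Fintype.card F = 9) :
    Nat.card (PSU 4 F 3) = 3265920 := by
  have h := Cfsg.Agent.H436.psu_eq (F := F) (n := 4) (q := 3) (by rw [hF]; norm_num) (by norm_num)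
  rw [show fPSU.den 4 3 = 16 by decide, show fPSU.num 4 3 = 16 * 3265920 by decide] at h
  omega

theorem card_psu42 {F : Type} [Field F] [Fintype F] (hF : Fintype.card F = 4) :
    Nat.card (PSU 4 F 2) = 25920 := by
  have h := Cfsg.Agent.H436.psu_eq (F := F) (n := 4) (q := 2) (by rw [hF]; norm_num) (by norm_num)
  rw [show fPSU.den 4 2 = 3 by decide, show fPSU.num 4 2 = 3 * 25920 by decide] at h
  omega

theorem card_psl2 {F : Type} [Field F] [Fintype F] {q d N : ℕ} (hF : Fintype.card F = q)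
    (hd : fPSL.den 2 q = d) (hN : fPSL.num 2 q = d * N) (h0 : 0 < d) :
    Nat.card (Matrix.ProjectiveSpecialLinearGroup (Fin 2) F) = N := by
  have h := Cfsg.Agent.H436.psl_eq (F := F) (n := 2) (by norm_num)
  rw [hF, hd, hN] at h
  exact Nat.eq_of_mul_eq_mul_left h0 h

theorem card_psl33 {F : Type} [Field F] [Fintype F] (hF : Fintype.card F = 3) :
    Nat.card (Matrix.ProjectiveSpecialLinearGroup (Fin 3) F) = 5616 := by
  have h := Cfsg.Agent.H436.psl_eq (F := F) (n := 3) (by norm_num)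
  rw [hF, show fPSL.den 3 3 = 2 by decide, show fPSL.num 3 3 = 2 * 5616 by decide] at h
  omega

/-- a 3-cycle -/
def v5t : SpecialLinearGroup (Fin 3) (ZMod 5) := ⟨!![0, 0, 1; 1, 0, 0; 0, 1, 0], by decide⟩

set_option maxHeartbeats 1000000 in
theorem no_nine_psu35 {F : Type} [Field F] [Fintype F] (hF : Fintype.card F = 25)
    (g : PSU 3 F 5) : orderOf g ≠ 9 := by
  have hp5 : Fact (Nat.Prime 5) := ⟨by norm_num⟩
  have : CharP F 5 := charP_of_card_eq_prime_pow (p := 5) (f := 2) (by rw [hF]; norm_num)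
  obtain ⟨w, hw, hw0⟩ : ∃ w : F, w ^ 2 + w + 1 = 0 ∧ w ≠ 1 := by
    classical
    obtain ⟨g, hg⟩ := exists_prime_orderOf_dvd_card' (G := Fˣ) 3 (by
      rw [Nat.card_eq_fintype_card, Fintype.card_units, hF]; norm_num)
    have h1 : g ≠ 1 := fun h => by rw [h, orderOf_one] at hg; omega
    have h3 : ((g : F)) ^ 3 = 1 := by
      have := congrArg Units.val (pow_orderOf_eq_one g)
      rw [hg] at this
      simpa using this
    have hne : (g : F) ≠ 1 := fun h => h1 (Units.ext h)
    refine ⟨g, ?_, hne⟩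
    have h4 : ((g : F) - 1) * ((g : F) ^ 2 + g + 1) = 0 := by linear_combination h3
    rcases mul_eq_zero.mp h4 with h | h
    · exact absurd (sub_eq_zero.mp h) hne
    · exact h
  have hw3 : w ^ 3 = 1 := by linear_combination (w - 1) * hw
  let d : SU 3 F 5 := ⟨⟨Matrix.diagonal ![1, w, w ^ 2], by
    simp [Matrix.det_diagonal, Fin.prod_univ_succ]
    linear_combination hw3⟩, mem_SU_diag 5 _ (by
      intro i
      fin_cases i
      · simp
      · simp
        linear_combination (w ^ 3 + 1) * hw3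
      · simp
        linear_combination (w ^ 9 + w ^ 6 + w ^ 3 + 1) * hw3) _⟩
  let m : SU 3 F 5 := ⟨⟨Matrix.diagonal ![w ^ 2, w ^ 2, w ^ 2], by
    simp [Matrix.det_diagonal, Fin.prod_univ_succ]
    linear_combination (w ^ 3 + 1) * hw3⟩, mem_SU_diag 5 _ (by
      intro i
      fin_cases i <;> simp <;> linear_combination (w ^ 9 + w ^ 6 + w ^ 3 + 1) * hw3) _⟩
  have oT : Orth v5t := by decide +kernel
  let t : SU 3 F 5 := ⟨rl F 5 v5t, mem_SU_of_ortho 1 v5t oT⟩
  have cT : (v5t : Matrix (Fin 3) (Fin 3) (ZMod 5)).map (ZMod.castHom (dvd_refl 5) F) =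
      !![0, 0, 1; 1, 0, 0; 0, 1, 0] := by
    ext i j
    fin_cases i <;> fin_cases j <;> simp [v5t]
  have hm : m ∈ Subgroup.center (SU 3 F 5) := by
    rw [Subgroup.mem_center_iff]
    intro g
    apply Subtype.ext
    apply Subtype.ext
    change g.1.1 * Matrix.diagonal ![w ^ 2, w ^ 2, w ^ 2] =
      Matrix.diagonal ![w ^ 2, w ^ 2, w ^ 2] * g.1.1
    have hs : Matrix.diagonal ![w ^ 2, w ^ 2, w ^ 2] = w ^ 2 • (1 : Matrix (Fin 3) (Fin 3) F) := by
      ext i j
      fin_cases i <;> fin_cases j <;> simp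
    rw [hs, Matrix.mul_smul, Matrix.smul_mul, mul_one, one_mul]
  have hfin : Finite (SU 3 F 5) := inferInstance
  have h27 : ¬ 27 ∣ Nat.card (PSU 3 F 5) := by
    rw [card_psu35 hF]
    norm_num
  have hne : t * d ≠ d * t := by
    intro h
    have h1 := congrArg (fun M : SU 3 F 5 => M.1.1 1 0) h
    change ((v5t : Matrix (Fin 3) (Fin 3) (ZMod 5)).map (ZMod.castHom (dvd_refl 5) F) *
      Matrix.diagonal ![1, w, w ^ 2]) 1 0 = (Matrix.diagonal ![1, w, w ^ 2] *
      (v5t : Matrix (Fin 3) (Fin 3) (ZMod 5)).map (ZMod.castHom (dvd_refl 5) F)) 1 0 at h1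
    rw [cT] at h1
    simp [Matrix.mul_apply, Fin.sum_univ_succ] at h1
    exact hw0 h1.symm
  refine no_nine_quot (H := SU 3 F 5) (s := d) (t := t) (m := m) hm ?_ ?_ ?_ hne h27 g
  · apply Subtype.ext
    apply Subtype.ext
    change Matrix.diagonal ![1, w, w ^ 2] ^ 3 = 1
    rw [Matrix.diagonal_pow, ← Matrix.diagonal_one]
    congr 1
    ext i
    fin_cases i
    · simp
    · simpa using hw3
    · simp
      linear_combination (w ^ 3 + 1) * hw3
  · apply Subtype.ext
    change rl F 5 _ ^ 3 = 1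
    rw [← map_pow, ← map_one (rl F 5)]
    congr 1
    decide +kernel
  · apply Subtype.ext
    apply Subtype.ext
    change (v5t : Matrix (Fin 3) (Fin 3) (ZMod 5)).map (ZMod.castHom (dvd_refl 5) F) *
      Matrix.diagonal ![1, w, w ^ 2] = Matrix.diagonal ![w ^ 2, w ^ 2, w ^ 2] *
      (Matrix.diagonal ![1, w, w ^ 2] *
      (v5t : Matrix (Fin 3) (Fin 3) (ZMod 5)).map (ZMod.castHom (dvd_refl 5) F))
    rw [cT]
    have cD : Matrix.diagonal ![1, w, w ^ 2] = !![1, 0, 0; 0, w, 0; 0, 0, w ^ 2] := by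
      ext i j
      fin_cases i <;> fin_cases j <;> simp
    have cM : Matrix.diagonal ![w ^ 2, w ^ 2, w ^ 2] = !![w ^ 2, 0, 0; 0, w ^ 2, 0; 0, 0, w ^ 2] := by
      ext i j
      fin_cases i <;> fin_cases j <;> simp
    rw [cD, cM]
    have e1 : !![0, 0, 1; 1, 0, 0; 0, 1, 0] * !![1, 0, 0; 0, w, 0; 0, 0, w ^ 2] =
        (!![0, 0, w ^ 2; 1, 0, 0; 0, w, 0] : Matrix (Fin 3) (Fin 3) F) := by
      ext i j
      fin_cases i <;> fin_cases j <;> simp [Matrix.mul_apply, Fin.sum_univ_three]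
    have e2 : !![1, 0, 0; 0, w, 0; 0, 0, w ^ 2] * !![0, 0, 1; 1, 0, 0; 0, 1, 0] =
        (!![0, 0, 1; w, 0, 0; 0, w ^ 2, 0] : Matrix (Fin 3) (Fin 3) F) := by
      ext i j
      fin_cases i <;> fin_cases j <;> simp [Matrix.mul_apply, Fin.sum_univ_three]
    have e3 : !![w ^ 2, 0, 0; 0, w ^ 2, 0; 0, 0, w ^ 2] * !![0, 0, 1; w, 0, 0; 0, w ^ 2, 0] =
        (!![0, 0, w ^ 2; w ^ 2 * w, 0, 0; 0, w ^ 2 * w ^ 2, 0] : Matrix (Fin 3) (Fin 3) F) := by
      ext i j
      fin_cases i <;> fin_cases j <;> simp [Matrix.mul_apply, Fin.sum_univ_three]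
    rw [e1, e2, e3, show w ^ 2 * w = 1 by linear_combination hw3,
      show w ^ 2 * w ^ 2 = w by linear_combination w * hw3]

end uthree

end Cfsg.Agent.H359
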