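import Mathlib
import Cfsg.Agent.H359.Lift
import Cfsg.Agent.H559.UnitMult
import Cfsg.Agent.H374.SpFour
import Cfsg.Agent.H390.PslSpec

/-!
# No element of order 15 in `U₄(3)`; element orders of `L₂(49)` and `PSp₄(7)`
-/

set_option autoImplicit false

namespace Cfsg.Agent.H359

open Cfsg Polynomial Cfsg.Agent.H559.UnitMult Cfsg.Agent.H127.UnitRoots

section roots

variable {K : Type*} [Field K]

/-- the orbit of `a` under `a ↦ a ^ (-3)` -/
noncomputable def wo (a : K) (k : ℕ) : K := a ^ ((-3 : ℤ) ^ k)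

theorem wo_succ (a : K) (k : ℕ) : wo a (k + 1) = ((wo a k) ^ 3)⁻¹ := by
  unfold wo
  rw [← zpow_natCast, ← zpow_mul, ← zpow_neg]
  congr 1
  rw [pow_succ]
  push_cast
  ring

theorem wo_mem {s : Multiset K} (hs : s.map (fun a => (a ^ 3)⁻¹) = s) {a : K} (ha : a ∈ s) (k : ℕ) :
    wo a k ∈ s := by
  induction k with
  | zero => unfold wo; simpa using ha
  | succ k ih =>
    rw [wo_succ, ← hs]
    exact Multiset.mem_map_of_mem _ ih

theorem zpow_eq_one_iff'' {a : K} (ha : a ≠ 0) {z : ℤ} : a ^ z = 1 ↔ (orderOf a : ℤ) ∣ z := by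
  have h1 : orderOf (Units.mk0 a ha) = orderOf a := by
    rw [← orderOf_units]; rfl
  rw [← h1, orderOf_dvd_iff_zpow_eq_one, Units.ext_iff]
  simp

theorem wo_ne {a : K} (ha : a ≠ 0) (h5 : 5 ∣ orderOf a) {i j : ℕ} (hij : i < j) (hj : j < 4) :
    wo a i ≠ wo a j := by
  intro h
  unfold wo at h
  have h1 : a ^ ((-3 : ℤ) ^ j - (-3 : ℤ) ^ i) = 1 := by
    rw [zpow_sub₀ ha, ← h, div_self (zpow_ne_zero _ ha)]
  rw [zpow_eq_one_iff'' ha] at h1
  have h2 : ((5 : ℕ) : ℤ) ∣ (-3 : ℤ) ^ j - (-3 : ℤ) ^ i := (Int.natCast_dvd_natCast.mpr h5).trans h1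
  have hi : i < 4 := hij.trans hj
  interval_cases j <;> interval_cases i <;> omega

theorem pow_five {s : Multiset K} (hs : s.map (fun a => (a ^ 3)⁻¹) = s) (hc : Multiset.card s = 4)
    (hp : s.prod = 1) (h0 : (0 : K) ∉ s) {a : K} (ha : a ∈ s) (h5 : 5 ∣ orderOf a) :
    ∃ c, pr s ∣ X ^ 5 - C c := by
  have ha0 : a ≠ 0 := fun h => h0 (h ▸ ha)
  set L : Multiset K := {wo a 0, wo a 1, wo a 2, wo a 3} with hL
  have hnd : L.Nodup := by
    simp only [hL, Multiset.insert_eq_cons, Multiset.nodup_cons, Multiset.mem_cons,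
      Multiset.mem_singleton, Multiset.nodup_singleton, not_or]
    refine ⟨⟨?_, ?_, ?_⟩, ⟨?_, ?_⟩, ?_, trivial⟩ <;> apply wo_ne ha0 h5 <;> norm_num
  have hle : L ≤ s := by
    rw [Multiset.le_iff_subset hnd]
    intro x hx
    simp only [hL, Multiset.insert_eq_cons, Multiset.mem_cons, Multiset.mem_singleton] at hx
    rcases hx with rfl | rfl | rfl | rfl <;> exact wo_mem hs ha _
  have heq : L = s := Multiset.eq_of_le_of_card_le hle (by rw [hc]; simp [hL])
  have h20 : a ^ 20 = 1 := by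
    rw [← heq] at hp
    simp only [hL, Multiset.insert_eq_cons, Multiset.prod_cons, Multiset.prod_singleton, wo] at hp
    rw [← zpow_add₀ ha0, ← zpow_add₀ ha0, ← zpow_add₀ ha0,
      show (-3 : ℤ) ^ 0 + ((-3) ^ 1 + ((-3) ^ 2 + (-3) ^ 3)) = -((20 : ℕ) : ℤ) by norm_num,
      zpow_neg, inv_eq_one, zpow_natCast] at hp
    exact hp
  refine ⟨a ^ 5, ?_⟩
  rw [← heq]
  apply pr_dvd_of_nodup (monic_X_pow_sub_C _ (by norm_num)).ne_zero hnd
  intro x hx
  rw [eval_sub, eval_pow, eval_X, eval_C, sub_eq_zero]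
  have key : ∀ k, wo a k ^ 5 = a ^ 5 := by
    intro k
    induction k with
    | zero => unfold wo; simp
    | succ k ih =>
      rw [wo_succ, inv_pow, ← pow_mul, mul_comm 3 5, pow_mul, ih, ← pow_mul]
      apply inv_eq_of_mul_eq_one_left
      rw [← pow_add]
      exact h20
  simp only [hL, Multiset.insert_eq_cons, Multiset.mem_cons, Multiset.mem_singleton] at hx
  rcases hx with rfl | rfl | rfl | rfl <;> exact key _

end roots

theorem pow_five_psu43 {F : Type*} [Field F] [Fintype F] (hF : Fintype.card F = 9) (x : PSU 4 F 3)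
    (h : 5 ∣ orderOf x) : x ^ 5 = 1 := by
  have hC : CharP F 3 := charP_of_card_eq_prime_pow (p := 3) (f := 2) (by rw [hF]; norm_num)
  have : Fact (Nat.Prime 3) := ⟨by norm_num⟩
  obtain ⟨g, rfl⟩ := QuotientGroup.mk_surjective x
  obtain ⟨a, ha, h1⟩ := exists_root (K := AlgebraicClosure F) 3 g (r := 5) (by norm_num)
    (by norm_num) h
  set N := (mat g).map (algebraMap F (AlgebraicClosure F)) with hN
  have hdet : N.det = 1 := by
    rw [hN, ← RingHom.mapMatrix_apply, ← RingHom.map_det, mat_det, map_one]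
  have hu : IsUnit N := by
    rw [Matrix.isUnit_iff_isUnit_det, hdet]
    exact isUnit_one
  obtain ⟨c, hc⟩ := pow_five (roots_closed (K := AlgebraicClosure F) (q := 3) (by rw [hF]; norm_num)
    (mat_unit g (by norm_num))) (by
      have h1 := splits_iff_card_roots.1 (IsAlgClosed.splits N.charpoly)
      rw [h1, Matrix.charpoly_natDegree_eq_dim, Fintype.card_fin]) (by
      rw [← hN, ← Matrix.det_eq_prod_roots_charpoly, hdet]) (zero_notMem hu) ha h1
  rw [← charpoly_eq_pr] at hc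
  have h1 := pow_of_dvd hc
  apply psu_pow_eq_one
  apply scalar_descend (K := AlgebraicClosure F) (e := c)
  rw [← h1, ← RingHom.mapMatrix_apply, ← RingHom.mapMatrix_apply, map_pow]

theorem no_fifteen_psu43 {F : Type*} [Field F] [Fintype F] (hF : Fintype.card F = 9)
    (x : PSU 4 F 3) : orderOf x ≠ 15 := by
  intro h
  have h1 := pow_five_psu43 hF x (by rw [h]; norm_num)
  have h2 := orderOf_dvd_of_pow_eq_one h1
  rw [h] at h2
  norm_num at h2

theorem not_sp_psl249 {F : Type} [Field F] [Fintype F] (hF : Fintype.card F = 49) :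
    ¬ Sp (Matrix.ProjectiveSpecialLinearGroup (Fin 2) F) := by
  intro h
  have : Fact (Nat.Prime 7) := ⟨by norm_num⟩
  have : CharP F 7 := charP_of_card_eq_prime_pow (p := 7) (f := 2) (by rw [hF]; norm_num)
  obtain ⟨g, hg⟩ := Cfsg.Agent.H390.PslSpec.exists_sub (F := F) (p := 7) (by rw [hF]; norm_num)
  have h1 := h g
  rw [hg, hF] at h1
  revert h1
  decide

theorem not_sp_psp27 {F : Type} [Field F] [Fintype F] (hF : Fintype.card F = 7) :
    ¬ Sp (PSp 2 F) := by
  intro h
  have : Fact (Nat.Prime 7) := ⟨by norm_num⟩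
  have : CharP F 7 := charP_of_card_eq_prime_pow (p := 7) (f := 1) (by rw [hF]; norm_num)
  obtain ⟨g, hg⟩ := (Cfsg.Agent.H374.SpFour.exists_iff (F := F) (p := 7) (n := 1) (by norm_num)
    (by rw [hF]; norm_num) (by norm_num) 25).mpr (by
      unfold Cfsg.Agent.H374.Quad.Om
      decide)
  have h1 := h g
  rw [hg] at h1
  revert h1
  decide

end Cfsg.Agent.H359
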