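import Mathlib
import Cfsg.Agent.H359.FactsA
import Cfsg.Agent.H359.FactsB
import Cfsg.Agent.H359.BadJ
import Cfsg.Agent.H359.BadL
import Cfsg.Agent.H359.BadU
import Cfsg.Agent.S3719
import Cfsg.Agent.S3720
import Cfsg.Agent.S0144

/-!
# The simple groups of order divisible by 7 with spectrum in `{1, ..., 10, 12, 15}`
-/

set_option autoImplicit false

namespace Cfsg.Agent.H359

open Cfsg Cfsg.Agent.OrdDiv

universe u

/-- The possible cases. -/
def Row (S : Type u) [Group S] : Prop :=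
  (Bad.{u} 5 S ∧ ¬ 5 ∣ Nat.card S ∧ ¬ 49 ∣ Nat.card S) ∨
  (Bad.{u} 3 S ∧ (∀ g : S, orderOf g ≠ 9) ∧ ¬ 49 ∣ Nat.card S ∧
    (Nat.card S / 7 % 7 = 3 ∨ Nat.card S / 7 % 7 = 6)) ∨
  (Bad.{u} 3 S ∧ Bad.{u} 5 S ∧ (∀ g : S, orderOf g ≠ 15) ∧ ¬ 49 ∣ Nat.card S ∧
    Nat.card S / 7 % 7 = 3) ∨
  (Bad.{u} 2 S ∧ (∀ g : S, orderOf g ≠ 8) ∧ ¬ 49 ∣ Nat.card S ∧ Nat.card S / 7 % 7 = 6) ∨
  (∃ (F : Type) (_ : Field F) (_ : Fintype F), Fintype.card F = 2 ∧
    (Nonempty (S ≃* PSp 3 F) ∨ Nonempty (S ≃* POmega F (quadFormPlus 4 F))))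

variable {S : Type u} [Group S]

theorem Bad.of_equiv {r : ℕ} {X : Type*} [Group X] (h : Bad.{u} r X) (e : S ≃* X) : Bad.{u} r S :=
  h.mono e.symm.toMonoidHom e.symm.injective

theorem no_of_equiv {n : ℕ} {X : Type*} [Group X] (h : ∀ g : X, orderOf g ≠ n) (e : S ≃* X)
    (g : S) : orderOf g ≠ n := by
  rw [← e.orderOf_eq]
  exact h _

theorem sp_of_equiv {X : Type*} [Group X] (h : Sp S) (e : S ≃* X) : Sp X :=
  h.of_surjective e.toMonoidHom e.surjective

theorem row_five {X : Type*} [Group X] (e : S ≃* X) {N : ℕ} (hN : Nat.card X = N)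
    (hb : Bad.{u} 5 X) (h5 : ¬ 5 ∣ N) (h49 : ¬ 49 ∣ N) : Row S := by
  refine Or.inl ⟨hb.of_equiv e, ?_, ?_⟩ <;> rwa [Nat.card_congr e.toEquiv, hN]

theorem row_nine {X : Type*} [Group X] (e : S ≃* X) {N : ℕ} (hN : Nat.card X = N)
    (hb : Bad.{u} 3 X) (h9 : ∀ g : X, orderOf g ≠ 9) (h49 : ¬ 49 ∣ N)
    (h7 : N / 7 % 7 = 3 ∨ N / 7 % 7 = 6) : Row S := by
  refine Or.inr (Or.inl ⟨hb.of_equiv e, no_of_equiv h9 e, ?_, ?_⟩) <;>
    rwa [Nat.card_congr e.toEquiv, hN]

theorem mem_of_prime_dvd [Finite S] (hs : Sp S) {p : ℕ} (hp : p.Prime) (h : p ∣ Nat.card S) :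
    p ∈ ({2, 3, 5, 7} : Finset ℕ) := by
  have : Fact p.Prime := ⟨hp⟩
  obtain ⟨g, hg⟩ := exists_prime_orderOf_dvd_card' (G := S) p h
  have h1 := hs g
  rw [hg] at h1
  simp only [Om, Finset.mem_insert, Finset.mem_singleton] at h1
  rcases h1 with rfl | rfl | rfl | rfl | rfl | rfl | rfl | rfl | rfl | rfl | rfl | rfl <;>
    first
    | decide
    | exact absurd hp (by norm_num)

theorem three_le_card [Finite S] [IsSimpleGroup S] (hna : ¬ IsMulCommutative S) :
    3 ≤ (Nat.card S).primeFactors.card := by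
  by_contra hlt
  have hN : Nat.card S ≠ 0 := Nat.card_pos.ne'
  have hsol : Group.IsSolvable S := by
    have hprod := Nat.prod_factorization_pow_eq_self hN
    rw [Finsupp.prod, Nat.support_factorization] at hprod
    have h3 : (Nat.card S).primeFactors.card = 0 ∨ (Nat.card S).primeFactors.card = 1 ∨
      (Nat.card S).primeFactors.card = 2 := by omega
    rcases h3 with h | h | h
    · rw [Finset.card_eq_zero] at h
      rw [h, Finset.prod_empty] at hprod
      exact S0144.result 2 2 0 0 Nat.prime_two Nat.prime_two (by rw [← hprod]; norm_num)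
    · obtain ⟨p, hp⟩ := Finset.card_eq_one.mp h
      rw [hp, Finset.prod_singleton] at hprod
      have hpp : p.Prime := Nat.prime_of_mem_primeFactors (n := Nat.card S) (by rw [hp]; simp)
      exact S0144.result p 2 ((Nat.card S).factorization p) 0 hpp Nat.prime_two
        (by rw [pow_zero, mul_one]; exact hprod.symm)
    · obtain ⟨p, q, hpq, hp⟩ := Finset.card_eq_two.mp h
      rw [hp, Finset.prod_pair hpq] at hprod
      have hpp : p.Prime := Nat.prime_of_mem_primeFactors (n := Nat.card S) (by rw [hp]; simp)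
      have hqp : q.Prime := Nat.prime_of_mem_primeFactors (n := Nat.card S) (by rw [hp]; simp)
      exact S0144.result p q _ _ hpp hqp hprod.symm
  have h1 : IsMulCommutative S := by
    have hc : commutator S ≠ ⊤ := by
      intro h
      have h2 := Group.IsSolvable.commutator_lt_top_of_nontrivial S
      exact absurd h h2.ne
    have hb : commutator S = ⊥ := by
      rcases (inferInstance : (commutator S).Normal).eq_bot_or_eq_top with h | h
      · exact h
      · exact absurd h hc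
    rw [commutator_eq_bot_iff_center_eq_top] at hb
    refine ⟨⟨fun a b => ?_⟩⟩
    have h3 : b ∈ Subgroup.center S := by rw [hb]; trivial
    exact Subgroup.mem_center_iff.mp h3 a
  exact hna h1

theorem row_of_simple [Finite S] [IsSimpleGroup S] (hna : ¬ IsMulCommutative S) (hs : Sp S)
    (h7 : 7 ∣ Nat.card S) : Row S := by
  have hN : Nat.card S ≠ 0 := Nat.card_pos.ne'
  have hsub : (Nat.card S).primeFactors ⊆ {2, 3, 5, 7} := by
    intro p hp
    exact mem_of_prime_dvd hs (Nat.prime_of_mem_primeFactors hp) (Nat.dvd_of_mem_primeFactors hp)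
  have h3 := three_le_card hna
  have h4 : (Nat.card S).primeFactors.card ≤ 4 := (Finset.card_le_card hsub).trans (by decide)
  rcases h3.lt_or_eq with hlt | heq
  · have h4' : (Nat.card S).primeFactors = {2, 3, 5, 7} :=
      Finset.eq_of_subset_of_card_le hsub (by rw [show ({2, 3, 5, 7} : Finset ℕ).card = 4 by decide]; omega)
    rcases S3720.result hna h4' with ⟨⟨e⟩⟩ | ⟨⟨e⟩⟩ | ⟨⟨e⟩⟩ | ⟨⟨e⟩⟩ | h | h | h | h | h | h | h | h
    · exact row_nine e card_alt7 (bad_alt7 (Or.inl rfl)) no_nine_alt7 (by norm_num) (by norm_num)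
    · exact row_nine e card_alt8 (bad_alt8 (Or.inl rfl)) no_nine_alt8 (by norm_num) (by norm_num)
    · refine Or.inr (Or.inr (Or.inr (Or.inl ⟨bad_two_alt9.of_equiv e, no_of_equiv no_eight_alt9 e,
        ?_, ?_⟩))) <;> rw [Nat.card_congr e.toEquiv, card_alt9] <;> norm_num
    · exact absurd (sp_of_equiv hs e) not_sp_alt10
    · obtain ⟨e⟩ := h
      exact row_nine e Cfsg.Agent.J2Sylow.SporSylow.card_J2 (JTwo.bad_J2 (Or.inl rfl))
        JTwo.no_nine_J2 (by norm_num) (by norm_num)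
    · obtain ⟨F, _, _, hF, ⟨e⟩⟩ := h
      exact absurd (sp_of_equiv hs e) (not_sp_psl249 hF)
    · obtain ⟨F, _, _, hF, ⟨e⟩⟩ := h
      exact row_nine e (card_psl34 hF) (LThreeFour.bad_psl34 hF) (no_nine_psl34 hF) (by norm_num)
        (by norm_num)
    · obtain ⟨F, _, _, hF, ⟨e⟩⟩ := h
      exact absurd (sp_of_equiv hs e) (not_sp_psp27 hF)
    · obtain ⟨F, _, _, hF, he⟩ := h
      exact Or.inr (Or.inr (Or.inr (Or.inr ⟨F, _, _, hF, Or.inl he⟩)))
    · obtain ⟨F, _, _, hF, he⟩ := h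
      exact Or.inr (Or.inr (Or.inr (Or.inr ⟨F, _, _, hF, Or.inr he⟩)))
    · obtain ⟨F, _, _, hF, ⟨e⟩⟩ := h
      exact row_nine e (card_psu35 hF) (bad_psu35 (Or.inl rfl) hF) (no_nine_psu35 hF) (by norm_num)
        (by norm_num)
    · obtain ⟨F, _, _, hF, ⟨e⟩⟩ := h
      refine Or.inr (Or.inr (Or.inl ⟨(bad_psu43 (Or.inl rfl) hF).of_equiv e,
        (bad_psu43 (Or.inr rfl) hF).of_equiv e, no_of_equiv (no_fifteen_psu43 hF) e, ?_, ?_⟩)) <;>
        rw [Nat.card_congr e.toEquiv, card_psu43 hF] <;> norm_num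
  · have h7' : ∀ {X : Type} [Group X] (e : S ≃* X) {N : ℕ} (_ : Nat.card X = N), ¬ 7 ∣ N → False :=
      fun e N hX h => h (by rw [← hX, ← Nat.card_congr e.toEquiv]; exact h7)
    rcases S3719.result hna heq.symm with ⟨⟨e⟩⟩ | ⟨⟨e⟩⟩ | ⟨F, _, _, hF, ⟨e⟩⟩ | ⟨F, _, _, hF, ⟨e⟩⟩ |
      ⟨F, _, _, hF, ⟨e⟩⟩ | ⟨F, _, _, hF, ⟨e⟩⟩
    · have h5 := card_alt 5 (by norm_num)
      rw [show Nat.factorial 5 = 2 * 60 by decide] at h5
      exact (h7' e (show Nat.card (alternatingGroup (Fin 5)) = 60 by omega) (by norm_num)).elim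
    · have h5 := card_alt 6 (by norm_num)
      rw [show Nat.factorial 6 = 2 * 360 by decide] at h5
      exact (h7' e (show Nat.card (alternatingGroup (Fin 6)) = 360 by omega) (by norm_num)).elim
    · rcases hF with hF | hF | hF
      · exact row_five e (card_psl2 hF (d := 12) (N := 168) (by decide) (by decide) (by norm_num))
          (bad_psl27 hF) (by norm_num) (by norm_num)
      · exact row_five e (card_psl2 hF (d := 7) (N := 504) (by decide) (by decide) (by norm_num))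
          (bad_psl28 (Or.inr rfl) hF) (by norm_num) (by norm_num)
      · exact (h7' e (card_psl2 hF (d := 32) (N := 2448) (by decide) (by decide) (by norm_num))
          (by norm_num)).elim
    · exact (h7' e (card_psl33 hF) (by norm_num)).elim
    · exact row_five e (card_psu33 hF) (bad_psu33 hF) (by norm_num) (by norm_num)
    · exact (h7' e (card_psu42 hF) (by norm_num)).elim

end Cfsg.Agent.H359
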