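import Mathlib
import Cfsg.Agent.H359.MainRed
import Cfsg.Agent.H359.Rows
import Cfsg.Agent.OddHalf.Table.OutSpSix
import Cfsg.Agent.OddHalf.Table.OutOEight

/-!
# The group is `Sp₆(2)` or `Ω₈⁺(2)`
-/

set_option autoImplicit false

namespace Cfsg.Agent.H359

open Cfsg Subgroup

universe u

/-- no `r` in the radical -/
theorem not_dvd_of_bad {G : Type u} [Group G] [Finite G] (hs : Sp G) (K : Subgroup G) [K.Normal]
    (hK : Group.IsNilpotent K) (S : Subgroup (G ⧸ K)) (hS : IsSimpleGroup S)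
    (h7 : 7 ∣ Nat.card S) {r : ℕ} (hr : r = 2 ∨ r = 3 ∨ r = 5) (hb : Bad.{u} r S) :
    ¬ r ∣ Nat.card K := by
  intro hd
  have : Fact (Nat.Prime 7) := ⟨by norm_num⟩
  have hrp : r.Prime := by rcases hr with rfl | rfl | rfl <;> norm_num
  obtain ⟨W, _, _, _, ρ, hρ⟩ := exists_mod_of_dvd hs K hK hrp hd
  obtain ⟨z, hz⟩ := exists_prime_orderOf_dvd_card' (G := S) 7 h7
  exact hb.elim hr hz W _ (hρ.comp S.subtype S.subtype_injective)

/-- elements of order prime to the radical and the index lie in the socle -/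
theorem exists_of_coprime {G : Type u} [Group G] [Finite G] (K : Subgroup G) [K.Normal]
    (S : Subgroup (G ⧸ K)) [S.Normal] (g : G) (h1 : (orderOf g).Coprime (Nat.card K))
    (h2 : (orderOf g).Coprime S.index) : ∃ s : S, orderOf s = orderOf g := by
  have ho : orderOf (g : G ⧸ K) = orderOf g := by
    apply Nat.dvd_antisymm (orderOf_map_dvd (QuotientGroup.mk' K) g)
    have h3 : g ^ orderOf (g : G ⧸ K) ∈ K := by
      rw [← QuotientGroup.eq_one_iff, QuotientGroup.mk_pow, pow_orderOf_eq_one]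
    have h4 : orderOf (g ^ orderOf (g : G ⧸ K)) ∣ Nat.card K := by
      have := _root_.orderOf_dvd_natCard (⟨_, h3⟩ : K)
      rwa [Subgroup.orderOf_mk] at this
    have h5 : orderOf (g ^ orderOf (g : G ⧸ K)) ∣ orderOf g := orderOf_pow_dvd _
    have h6 := Nat.eq_one_of_dvd_coprimes h1 h5 h4
    rw [orderOf_eq_one_iff] at h6
    exact orderOf_dvd_of_pow_eq_one h6
  have hm := mem_of_coprime S (g : G ⧸ K) (by rwa [ho])
  exact ⟨⟨_, hm⟩, by rw [Subgroup.orderOf_mk, ho]⟩

theorem card_mulAut_congr {X Y : Type*} [Group X] [Group Y] (e : X ≃* Y) :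
    Nat.card (MulAut X) = Nat.card (MulAut Y) := Nat.card_congr (MulAut.congr e).toEquiv

theorem card_aut_dvd {S : Type*} [Group S] [Finite S] {F : Type} [Field F] [Fintype F]
    (hF : Fintype.card F = 2)
    (h : Nonempty (S ≃* PSp 3 F) ∨ Nonempty (S ≃* POmega F (quadFormPlus 4 F))) :
    Nat.card (MulAut S) ∣ 6 * Nat.card S := by
  rcases h with ⟨⟨e⟩⟩ | ⟨⟨e⟩⟩
  · rw [card_mulAut_congr e, Nat.card_congr e.toEquiv]
    have h1 : Function.Surjective (MulAut.conj : PSp 3 F →* MulAut (PSp 3 F)) := by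
      intro α
      obtain ⟨x, hx⟩ := Cfsg.Agent.OddHalf.Table.OutSpSix.inner (F := F) (m := 3) le_rfl
        (by rw [Nat.card_eq_fintype_card, hF]) α
      exact ⟨x, hx.symm⟩
    exact (Subgroup.card_dvd_of_surjective _ h1).trans (Dvd.intro_left _ rfl)
  · rw [card_mulAut_congr e, Nat.card_congr e.toEquiv,
      Cfsg.Agent.OddHalf.Table.OutOEight.card_aut hF]

theorem card_dvd_aut {T : Type*} [Group T] [Finite T] (S : Subgroup T) [S.Normal]
    (hc : centralizer (S : Set T) = ⊥) : Nat.card T ∣ Nat.card (MulAut S) := by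
  have hinj : Function.Injective (MulAut.conjNormal : T →* MulAut S) := by
    rw [← MonoidHom.ker_eq_bot_iff, eq_bot_iff, ← hc]
    intro g hg
    rw [mem_centralizer_iff]
    intro s hs
    have h1 : MulAut.conjNormal g (⟨s, hs⟩ : S) = ⟨s, hs⟩ := by
      rw [MonoidHom.mem_ker.mp hg]
      rfl
    have h2 := congrArg Subtype.val h1
    rw [MulAut.conjNormal_apply] at h2
    change g * s * g⁻¹ = s at h2
    rw [mul_inv_eq_iff_eq_mul] at h2
    exact h2.symm
  have h3 := Nat.card_congr (MonoidHom.ofInjective hinj).toEquiv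
  rw [h3]
  exact Subgroup.card_subgroup_dvd_card _

theorem k_cases {k m : ℕ} (h : k ∣ 6) (hm : k % 7 = m) : k = m := by
  have h1 : k ≤ 6 := Nat.le_of_dvd (by norm_num) h
  omega

theorem final_red {G : Type u} [Group G] [Finite G] (hs : Sp G)
    (hall : ∀ n ∈ Om, ∃ g : G, orderOf g = n)
    (hB : ∀ (F : Type) [Field F] [Fintype F], Fintype.card F = 2 → ∀ r, (r = 2 ∨ r = 3 ∨ r = 5) →
      Bad.{u} r (PSp 3 F) ∧ Bad.{u} r (POmega F (quadFormPlus 4 F)))
    (hC : ∀ (F : Type) [Field F] [Fintype F], Fintype.card F = 2 →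
      Nat.card (PSp 3 F) = 1451520 ∧ Nat.card (POmega F (quadFormPlus 4 F)) = 174182400) :
    ∃ (F : Type) (_ : Field F) (_ : Fintype F), Fintype.card F = 2 ∧
      (Nonempty (G ≃* PSp 3 F) ∨ Nonempty (G ≃* POmega F (quadFormPlus 4 F))) := by
  obtain ⟨K, hKn, S, hSn, hSs, hna, hS7, hc, hKnil, hK7⟩ := main_red hs hall
  have hsT : Sp (G ⧸ K) := hs.quot K
  have hsS : Sp S := hsT.sub S
  have hprime : ∀ p, p.Prime → p ∣ Nat.card K → p = 2 ∨ p = 3 ∨ p = 5 := by
    intro p hp hd
    have h1 := mem_of_prime_dvd (hs.sub K) hp hd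
    simp only [Finset.mem_insert, Finset.mem_singleton] at h1
    rcases h1 with h | h | h | rfl
    · exact Or.inl h
    · exact Or.inr (Or.inl h)
    · exact Or.inr (Or.inr h)
    · exact absurd hd hK7
  have hnd := fun {r : ℕ} (hr : r = 2 ∨ r = 3 ∨ r = 5) (hb : Bad.{u} r S) =>
    not_dvd_of_bad hs K hKnil S hSs hS7 hr hb
  rcases row_of_simple hna hsS hS7 with ⟨b5, n5, n49⟩ | ⟨b3, n9, n49, h7⟩ |
    ⟨b3, b5, n15, n49, h7⟩ | ⟨b2, n8, n49, h7⟩ | ⟨F, iF1, iF2, hF, he⟩
  · exfalso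
    obtain ⟨a, k, -, -, hk⟩ := idx hsT S hS7 n49
    obtain ⟨g, hg⟩ := hall 5 (by decide)
    obtain ⟨s, hs'⟩ := exists_of_coprime K S g
      (by rw [hg]; exact (Nat.Prime.coprime_iff_not_dvd (by norm_num)).mpr (hnd (by simp) b5))
      (by
        rw [hg]
        refine Nat.Coprime.coprime_dvd_right ((Dvd.intro _ rfl).trans hk) ?_
        exact Nat.Coprime.mul_right (Nat.Coprime.pow_right _ (by norm_num)) (by norm_num))
    apply n5
    rw [← hg, ← hs']
    exact _root_.orderOf_dvd_natCard s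
  · exfalso
    obtain ⟨a, k, h6, h7', hk⟩ := idx hsT S hS7 n49
    have hi : S.index ∣ 7 ^ a * 2 := by
      have h3 : S.index * 3 ∣ 7 ^ a * 6 := by
        refine (Nat.mul_dvd_mul_left _ ?_).trans hk
        rcases h7 with h | h
        · rw [h] at h7'
          rw [k_cases h6 h7']
        · rw [h] at h7'
          rw [k_cases h6 h7']
          norm_num
      rw [show 7 ^ a * 6 = 7 ^ a * 2 * 3 by ring] at h3
      exact Nat.dvd_of_mul_dvd_mul_right (by norm_num) h3
    obtain ⟨g, hg⟩ := hall 9 (by decide)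
    obtain ⟨s, hs'⟩ := exists_of_coprime K S g
      (by
        rw [hg, show 9 = 3 ^ 2 by norm_num]
        exact Nat.Coprime.pow_left _ ((Nat.Prime.coprime_iff_not_dvd (by norm_num)).mpr
          (hnd (by simp) b3)))
      (by
        rw [hg]
        refine Nat.Coprime.coprime_dvd_right hi ?_
        exact Nat.Coprime.mul_right (Nat.Coprime.pow_right _ (by norm_num)) (by norm_num))
    exact n9 s (hs'.trans hg)
  · exfalso
    obtain ⟨a, k, h6, h7', hk⟩ := idx hsT S hS7 n49
    have hi : S.index ∣ 7 ^ a * 2 := by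
      have h3 : S.index * 3 ∣ 7 ^ a * 6 := by
        rw [h7] at h7'
        rwa [k_cases h6 h7'] at hk
      rw [show 7 ^ a * 6 = 7 ^ a * 2 * 3 by ring] at h3
      exact Nat.dvd_of_mul_dvd_mul_right (by norm_num) h3
    obtain ⟨g, hg⟩ := hall 15 (by decide)
    obtain ⟨s, hs'⟩ := exists_of_coprime K S g
      (by
        rw [hg, show 15 = 3 * 5 by norm_num]
        exact Nat.Coprime.mul_left ((Nat.Prime.coprime_iff_not_dvd (by norm_num)).mpr
          (hnd (by simp) b3)) ((Nat.Prime.coprime_iff_not_dvd (by norm_num)).mpr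
          (hnd (by simp) b5)))
      (by
        rw [hg]
        refine Nat.Coprime.coprime_dvd_right hi ?_
        exact Nat.Coprime.mul_right (Nat.Coprime.pow_right _ (by norm_num)) (by norm_num))
    exact n15 s (hs'.trans hg)
  · exfalso
    obtain ⟨a, k, h6, h7', hk⟩ := idx hsT S hS7 n49
    have hi : S.index ∣ 7 ^ a := by
      rw [h7] at h7'
      rw [k_cases h6 h7'] at hk
      exact Nat.dvd_of_mul_dvd_mul_right (by norm_num) hk
    obtain ⟨g, hg⟩ := hall 8 (by decide)
    obtain ⟨s, hs'⟩ := exists_of_coprime K S g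
      (by
        rw [hg, show 8 = 2 ^ 3 by norm_num]
        exact Nat.Coprime.pow_left _ ((Nat.Prime.coprime_iff_not_dvd (by norm_num)).mpr
          (hnd (by simp) b2)))
      (by
        rw [hg]
        refine Nat.Coprime.coprime_dvd_right hi ?_
        exact Nat.Coprime.pow_right _ (by norm_num))
    exact n8 s (hs'.trans hg)
  · refine ⟨F, iF1, iF2, hF, ?_⟩
    have hb : ∀ r, (r = 2 ∨ r = 3 ∨ r = 5) → Bad.{u} r S := by
      intro r hr
      rcases he with ⟨⟨e⟩⟩ | ⟨⟨e⟩⟩
      · exact (hB F hF r hr).1.of_equiv e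
      · exact (hB F hF r hr).2.of_equiv e
    have hK1 : K = ⊥ := by
      rw [← Subgroup.card_eq_one]
      by_contra hne
      obtain ⟨p, hp, hd⟩ := Nat.exists_prime_and_dvd hne
      have h := hprime p hp hd
      exact hnd h (hb p h) hd
    have hcard : ¬ 49 ∣ Nat.card S ∧ Nat.card S / 7 % 7 = 6 := by
      rcases he with ⟨⟨e⟩⟩ | ⟨⟨e⟩⟩
      · rw [Nat.card_congr e.toEquiv, (hC F hF).1]
        norm_num
      · rw [Nat.card_congr e.toEquiv, (hC F hF).2]
        norm_num
    obtain ⟨a, k, h6, h7', hk⟩ := idx hsT S hS7 hcard.1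
    have hi : S.index ∣ 7 ^ a := by
      rw [hcard.2] at h7'
      rw [k_cases h6 h7'] at hk
      exact Nat.dvd_of_mul_dvd_mul_right (by norm_num) hk
    have hi6 : S.index ∣ 6 := by
      have h1 := (card_dvd_aut S hc).trans (card_aut_dvd hF he)
      rw [← Subgroup.index_mul_card S] at h1
      exact Nat.dvd_of_mul_dvd_mul_right Nat.card_pos h1
    have hi1 : S.index = 1 :=
      Nat.eq_one_of_dvd_coprimes (Nat.Coprime.pow_left a (by norm_num : Nat.Coprime 7 6)) hi hi6
    have htop : S = ⊤ := Subgroup.index_eq_one.mp hi1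
    have e1 : G ≃* G ⧸ K :=
      (QuotientGroup.quotientBot.symm).trans (QuotientGroup.quotientMulEquivOfEq hK1.symm)
    have e2 : (G ⧸ K) ≃* S := (Subgroup.topEquiv.symm).trans (MulEquiv.subgroupCongr htop.symm)
    rcases he with ⟨⟨e⟩⟩ | ⟨⟨e⟩⟩
    · exact Or.inl ⟨(e1.trans e2).trans e⟩
    · exact Or.inr ⟨(e1.trans e2).trans e⟩

end Cfsg.Agent.H359
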